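import Cfsg.Agent.Lib.Transfer.Tate

/-!
Frattini subgroups of `p`-groups and transfer to groups of order `p`.
-/

set_option autoImplicit false

namespace Cfsg.Agent.Lib.Transfer

universe u

variable {G : Type u} [Group G] {p : ℕ} [hp : Fact p.Prime]

lemma pResidual_eq_bot (hG : IsPGroup p G) : Cfsg.pResidual p G = ⊥ :=
  le_bot_iff.mp ((pResidual_le_ker hG (MonoidHom.id G)).trans
    ((MonoidHom.ker_eq_bot_iff _).mpr Function.injective_id).le)

omit hp in
lemma map_frattini_le_of_surjective {H : Type*} [Group H] (f : G →* H)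
    (hf : Function.Surjective f) : (frattini G).map f ≤ frattini H :=
  Subgroup.map_le_iff_le_comap.mpr (frattini_le_comap_frattini_of_surjective hf)

/-- A maximal subgroup of a finite `p`-group is normal of index `p`. -/
lemma index_eq_of_isCoatom [Finite G] (hG : IsPGroup p G) {M : Subgroup G} (hM : IsCoatom M) :
    M.Normal ∧ M.index = p := by
  haveI : Group.IsNilpotent G := hG.isNilpotent
  haveI hn : M.Normal := Subgroup.NormalizerCondition.normal_of_coatom M (Group.normalizerCondition_of_isNilpotent (G := G)) hM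
  refine ⟨hn, ?_⟩
  haveI : Nontrivial (G ⧸ M) := by
    rw [← not_subsingleton_iff_nontrivial, QuotientGroup.subsingleton_iff]
    exact hM.1
  haveI : Finite (G ⧸ M) := inferInstance
  obtain ⟨n, hn0, hn⟩ := ((hG.to_quotient M).nontrivial_iff_card).mp inferInstance
  obtain ⟨x, hx⟩ := exists_prime_orderOf_dvd_card' (G := G ⧸ M) p (hn ▸ dvd_pow_self p hn0.ne')
  have h1 : M < (Subgroup.zpowers x).comap (QuotientGroup.mk' M) := by
    refine lt_of_le_of_ne (fun m hm => ?_) fun he => ?_
    · rw [Subgroup.mem_comap, show QuotientGroup.mk' M m = 1 from (QuotientGroup.eq_one_iff m).mpr hm]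
      exact one_mem _
    · obtain ⟨y, rfl⟩ := QuotientGroup.mk'_surjective M x
      have : y ∈ M := he ▸ Subgroup.mem_zpowers (QuotientGroup.mk' M y)
      rw [show QuotientGroup.mk' M y = 1 from (QuotientGroup.eq_one_iff y).mpr this, orderOf_one] at hx
      exact hp.out.one_lt.ne hx
  have h2 := hM.2 _ h1
  have h3 : (Subgroup.zpowers x) = ⊤ := by
    rw [← Subgroup.map_comap_eq_self_of_surjective (QuotientGroup.mk'_surjective M)
      (Subgroup.zpowers x), h2, Subgroup.map_top_of_surjective _ (QuotientGroup.mk'_surjective M)]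
  rw [Subgroup.index, ← Subgroup.card_top (G := G ⧸ M), ← h3, Nat.card_zpowers, hx]

lemma pow_mem_frattini [Finite G] (hG : IsPGroup p G) (a : G) : a ^ p ∈ frattini G := by
  simp only [frattini, Order.radical, Subgroup.mem_iInf, Set.mem_setOf_eq]
  intro M hM
  obtain ⟨hn, hi⟩ := index_eq_of_isCoatom hG hM
  exact hi ▸ M.pow_index_mem a

/-- An element killed by all homomorphisms to groups of order `p` is in the Frattini subgroup. -/
lemma mem_frattini_of_forall_hom [Finite G] (hG : IsPGroup p G) {x : G}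
    (h : ∀ {A : Type u} [Group A] [Fact (Nat.card A = p)] (δ : G →* A), δ x = 1) :
    x ∈ frattini G := by
  simp only [frattini, Order.radical, Subgroup.mem_iInf, Set.mem_setOf_eq]
  intro M hM
  obtain ⟨hn, hi⟩ := index_eq_of_isCoatom hG hM
  haveI : Fact (Nat.card (G ⧸ M) = p) := ⟨hi⟩
  exact (QuotientGroup.eq_one_iff x).mp (h (QuotientGroup.mk' M))

/-- In a perfect group a central element of a Sylow subgroup `P` is killed by all homomorphisms
from `P` to groups of order `p`. -/
lemma hom_eq_one_of_mem_center_of_perfect [Finite G] (P : Sylow p G) (hG : commutator G = ⊤)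
    {z : G} (hz : z ∈ Subgroup.center G) (hzP : z ∈ (P : Subgroup G)) {A : Type*} [Group A]
    [hA : Fact (Nat.card A = p)] (δ : (P : Subgroup G) →* A) : δ ⟨z, hzP⟩ = 1 := by
  haveI : IsCyclic A := isCyclic_of_prime_card hA.out
  letI := IsCyclic.commGroup (α := A)
  haveI : Finite A := Nat.finite_of_card_ne_zero (hA.out ▸ hp.out.ne_zero)
  let τ : G →* A := MonoidHom.transfer δ
  have hτ : τ z = 1 := by
    have : z ∈ τ.ker := Abelianization.commutator_subset_ker τ (hG ▸ Subgroup.mem_top z)
    exact this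
  have key : ∀ (k : ℕ) (g₀ : G), g₀⁻¹ * z ^ k * g₀ ∈ (P : Subgroup G) →
      g₀⁻¹ * z ^ k * g₀ = z ^ k := by
    intro k g₀ _
    rw [mul_assoc, ← Subgroup.mem_center_iff.mp (pow_mem hz k) g₀, inv_mul_cancel_left]
  rw [show τ z = _ from MonoidHom.transfer_eq_pow δ z key] at hτ
  have e1 : (⟨z ^ (P : Subgroup G).index, MonoidHom.transfer_eq_pow_aux z key⟩ : (P : Subgroup G))
      = (⟨z, hzP⟩ : (P : Subgroup G)) ^ (P : Subgroup G).index := Subtype.ext (by simp)
  rw [e1, map_pow] at hτ
  refine (powCoprime (G := A) (n := (P : Subgroup G).index) ?_).injective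
    (hτ.trans (one_pow _).symm)
  rw [hA.out]
  exact (hp.out.coprime_iff_not_dvd).mpr P.not_dvd_index

end Cfsg.Agent.Lib.Transfer
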