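import Mathlib.GroupTheory.Sylow
import Mathlib.GroupTheory.Complement
import Mathlib.GroupTheory.PGroup
import Mathlib.GroupTheory.Frattini
import Mathlib.GroupTheory.QuotientGroup.Finite
import Mathlib.RingTheory.Coprime.Lemmas
import Cfsg.Prelude.Def_Transfer

/-!
Basic API for `Cfsg.pResidual` and `Cfsg.HasNormalPComplement`.
-/

set_option autoImplicit false

namespace Cfsg.Agent.Lib.Transfer

variable {G : Type*} [Group G] {p : ℕ} [hp : Fact p.Prime]

lemma coprime_iff_not_dvd (n : ℕ) : Nat.Coprime n p ↔ ¬ p ∣ n := by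
  rw [Nat.coprime_comm, hp.out.coprime_iff_not_dvd]

lemma eq_one_of_isPGroup_of_coprime {P : Subgroup G} (hP : IsPGroup p P) {x : G} (hx : x ∈ P)
    (h : Nat.Coprime (orderOf x) p) : x = 1 := by
  obtain ⟨k, hk⟩ := IsPGroup.iff_orderOf.mp hP ⟨x, hx⟩
  rw [Subgroup.orderOf_mk] at hk
  rw [hk] at h
  rcases Nat.eq_zero_or_pos k with h0 | h0
  · rw [h0, pow_zero] at hk; exact orderOf_eq_one_iff.mp hk
  · rw [Nat.coprime_pow_left_iff h0, Nat.coprime_self] at h
    exact absurd h hp.out.ne_one

/-- A group of order prime to `p` consists of elements of order prime to `p`. -/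
lemma coprime_orderOf_of_mem {N : Subgroup G} (hN : Nat.Coprime (Nat.card N) p) {x : G}
    (hx : x ∈ N) : Nat.Coprime (orderOf x) p := by
  refine Nat.Coprime.coprime_dvd_left ?_ hN
  exact Subgroup.orderOf_dvd_natCard N hx

/-- The decomposition of an element into its `p'`-part and its `p`-part. -/
lemma exists_pPart_decomp [Finite G] (g : G) :
    ∃ a b : G, a ∈ Subgroup.zpowers g ∧ b ∈ Subgroup.zpowers g ∧
      Nat.Coprime (orderOf a) p ∧ (∃ k, orderOf b = p ^ k) ∧ g = a * b := by
  have hn : orderOf g ≠ 0 := (orderOf_pos g).ne'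
  obtain ⟨k, m, hm, hkm⟩ := Nat.exists_eq_pow_mul_and_not_dvd hn p hp.out.ne_one
  have hcop : IsCoprime ((p : ℤ) ^ k) (m : ℤ) := by
    have : Nat.Coprime (p ^ k) m := Nat.Coprime.pow_left k (hp.out.coprime_iff_not_dvd.mpr hm)
    have h2 := Nat.isCoprime_iff_coprime.mpr this
    push_cast at h2
    exact h2
  obtain ⟨u, v, huv⟩ := hcop
  refine ⟨g ^ (u * (p : ℤ) ^ k), g ^ (v * (m : ℤ)), Subgroup.mem_zpowers_iff.mpr ⟨_, rfl⟩,
    Subgroup.mem_zpowers_iff.mpr ⟨_, rfl⟩, ?_, ?_, ?_⟩
  · rw [coprime_iff_not_dvd]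
    intro hdvd
    apply hm
    refine hdvd.trans (orderOf_dvd_of_pow_eq_one ?_)
    rw [← zpow_natCast, ← zpow_mul, mul_assoc,
      show (p : ℤ) ^ k * (m : ℤ) = ((orderOf g : ℕ) : ℤ) by rw [hkm]; push_cast; ring, mul_comm,
      zpow_mul, zpow_natCast, pow_orderOf_eq_one, one_zpow]
  · have h1 : (g ^ (v * (m : ℤ))) ^ (p ^ k) = 1 := by
      rw [← zpow_natCast, ← zpow_mul, mul_assoc,
        show (m : ℤ) * ((p ^ k : ℕ) : ℤ) = ((orderOf g : ℕ) : ℤ) by rw [hkm]; push_cast; ring,
        mul_comm, zpow_mul, zpow_natCast, pow_orderOf_eq_one, one_zpow]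
    obtain ⟨j, _, hj⟩ := (Nat.dvd_prime_pow hp.out).mp (orderOf_dvd_of_pow_eq_one h1)
    exact ⟨j, hj⟩
  · rw [← zpow_add, huv, zpow_one]

lemma mem_pResidual_of_coprime {g : G} (hg : Nat.Coprime (orderOf g) p) :
    g ∈ Cfsg.pResidual p G :=
  Subgroup.subset_closure hg

omit hp in
lemma map_pResidual_le {H : Type*} [Group H] (f : G →* H) :
    (Cfsg.pResidual p G).map f ≤ Cfsg.pResidual p H := by
  rw [Subgroup.map_le_iff_le_comap, Cfsg.pResidual, Subgroup.closure_le]
  intro g hg
  exact Subgroup.subset_closure (Nat.Coprime.coprime_dvd_left (orderOf_map_dvd f g) hg)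

omit hp in
instance pResidual_characteristic : (Cfsg.pResidual p G).Characteristic :=
  Subgroup.characteristic_iff_map_le.mpr fun f => map_pResidual_le f.toMonoidHom

omit hp in
instance pResidual_normal : (Cfsg.pResidual p G).Normal := inferInstance

lemma pResidual_le_ker {E : Type*} [Group E] (hE : IsPGroup p E) (f : G →* E) :
    Cfsg.pResidual p G ≤ f.ker := by
  rw [Cfsg.pResidual, Subgroup.closure_le]
  intro g hg
  have h1 : Nat.Coprime (orderOf (f g)) p := Nat.Coprime.coprime_dvd_left (orderOf_map_dvd f g) hg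
  exact eq_one_of_isPGroup_of_coprime (hE.to_subgroup ⊤) (Subgroup.mem_top (f g)) h1

lemma isPGroup_quotient_pResidual [Finite G] : IsPGroup p (G ⧸ Cfsg.pResidual p G) := by
  intro x
  induction x using QuotientGroup.induction_on with
  | H g =>
    obtain ⟨a, b, -, -, ha, ⟨k, hk⟩, rfl⟩ := exists_pPart_decomp (p := p) g
    refine ⟨k, ?_⟩
    rw [QuotientGroup.mk_mul, (QuotientGroup.eq_one_iff a).mpr (mem_pResidual_of_coprime ha),
      one_mul, ← QuotientGroup.mk_pow, ← hk, pow_orderOf_eq_one, QuotientGroup.mk_one]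

lemma exists_index_pResidual [Finite G] : ∃ k, (Cfsg.pResidual p G).index = p ^ k :=
  IsPGroup.iff_card.mp isPGroup_quotient_pResidual

/-- A normal subgroup with quotient a `p`-group contains `O^p(G)`. -/
lemma pResidual_le_of_index {N : Subgroup G} [N.Normal] {k : ℕ} (h : N.index = p ^ k) :
    Cfsg.pResidual p G ≤ N := by
  have hE : IsPGroup p (G ⧸ N) := IsPGroup.of_card h
  exact (pResidual_le_ker hE (QuotientGroup.mk' N)).trans (QuotientGroup.ker_mk' N).le

/-- `O^p(H)` is contained in `O^p(G)`. -/
lemma pResidual_map_subtype_le (H : Subgroup G) :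
    (Cfsg.pResidual p H).map H.subtype ≤ Cfsg.pResidual p G :=
  map_pResidual_le H.subtype

omit hp in
lemma pResidual_le_subgroupOf (H : Subgroup G) :
    Cfsg.pResidual p H ≤ (Cfsg.pResidual p G).subgroupOf H :=
  Subgroup.map_le_iff_le_comap.mp (map_pResidual_le H.subtype)

omit hp in
/-- `O^p(O^p(G)) = O^p(G)`. -/
lemma pResidual_pResidual_eq_top : Cfsg.pResidual p ↥(Cfsg.pResidual p G) = ⊤ := by
  refine top_le_iff.mp ((Subgroup.closure_closure_coe_preimage
    (k := {g : G | Nat.Coprime (orderOf g) p})).ge.trans (Subgroup.closure_mono ?_))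
  intro x hx
  show Nat.Coprime (orderOf x) p
  rw [← Subgroup.orderOf_coe]
  exact hx

/-- The intersection of a Sylow subgroup with a subgroup of `p`-power index generates the group. -/
lemma sylow_sup_eq_top_of_index [Finite G] (P : Sylow p G) (N : Subgroup G) {k : ℕ}
    (h : N.index = p ^ k) : (P : Subgroup G) ⊔ N = ⊤ := by
  rw [← Subgroup.index_eq_one]
  refine Nat.eq_one_of_dvd_coprimes (k := ((P : Subgroup G) ⊔ N).index) ?_
    (Subgroup.index_dvd_of_le le_sup_left) (Subgroup.index_dvd_of_le le_sup_right)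
  rw [h]
  exact Nat.Coprime.pow_right k ((coprime_iff_not_dvd _).mpr P.not_dvd_index)

lemma sylow_sup_pResidual [Finite G] (P : Sylow p G) :
    (P : Subgroup G) ⊔ Cfsg.pResidual p G = ⊤ := by
  obtain ⟨k, hk⟩ := exists_index_pResidual (G := G) (p := p)
  exact sylow_sup_eq_top_of_index P _ hk

/-- A normal subgroup of order prime to `p` and `p`-power index complements every Sylow subgroup. -/
lemma isComplement'_of_coprime_of_index [Finite G] (P : Sylow p G) (N : Subgroup G) [N.Normal]
    (hN : Nat.Coprime (Nat.card N) p) {k : ℕ} (hk : N.index = p ^ k) :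
    N.IsComplement' (P : Subgroup G) := by
  refine Subgroup.isComplement'_of_disjoint_and_mul_eq_univ ?_ ?_
  · rw [Subgroup.disjoint_def]
    intro x hxN hxP
    exact eq_one_of_isPGroup_of_coprime P.2 hxP (coprime_orderOf_of_mem hN hxN)
  · rw [← Subgroup.normal_mul N (P : Subgroup G), sup_comm, sylow_sup_eq_top_of_index P N hk,
      Subgroup.coe_top]

lemma coprime_card_of_isComplement' [Finite G] {P : Sylow p G} {N : Subgroup G}
    (h : N.IsComplement' (P : Subgroup G)) : Nat.Coprime (Nat.card N) p := by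
  rw [← h.index_eq_card, coprime_iff_not_dvd]
  exact P.not_dvd_index

lemma exists_index_of_isComplement' [Finite G] {P : Sylow p G} {N : Subgroup G}
    (h : N.IsComplement' (P : Subgroup G)) : ∃ k, N.index = p ^ k := by
  obtain ⟨k, hk⟩ := IsPGroup.iff_card.mp P.2
  exact ⟨k, h.symm.index_eq_card.trans hk⟩

/-- A normal `p`-complement consists exactly of the elements of order prime to `p`. -/
lemma mem_iff_coprime [Finite G] {P : Sylow p G} {N : Subgroup G} [N.Normal]
    (h : N.IsComplement' (P : Subgroup G)) (x : G) : x ∈ N ↔ Nat.Coprime (orderOf x) p := by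
  refine ⟨coprime_orderOf_of_mem (coprime_card_of_isComplement' h), fun hx => ?_⟩
  obtain ⟨k, hk⟩ := exists_index_of_isComplement' h
  exact pResidual_le_of_index hk (mem_pResidual_of_coprime hx)

lemma eq_pResidual_of_isComplement' [Finite G] {P : Sylow p G} {N : Subgroup G} [N.Normal]
    (h : N.IsComplement' (P : Subgroup G)) : N = Cfsg.pResidual p G := by
  refine le_antisymm (fun x hx => mem_pResidual_of_coprime ((mem_iff_coprime h x).mp hx)) ?_
  obtain ⟨k, hk⟩ := exists_index_of_isComplement' h
  exact pResidual_le_of_index hk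

/-- The basic characterisation: `O^p(G)` has order prime to `p`. -/
lemma hasNormalPComplement_iff_coprime [Finite G] :
    Cfsg.HasNormalPComplement p G ↔ Nat.Coprime (Nat.card (Cfsg.pResidual p G)) p := by
  constructor
  · rintro ⟨P, N, hN, hc⟩
    rw [← eq_pResidual_of_isComplement' hc]
    exact coprime_card_of_isComplement' hc
  · intro h
    obtain ⟨k, hk⟩ := exists_index_pResidual (G := G) (p := p)
    let P : Sylow p G := default
    exact ⟨P, _, pResidual_normal, isComplement'_of_coprime_of_index P _ h hk⟩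

lemma hasNormalPComplement_of_coprime_of_index [Finite G] (N : Subgroup G) [N.Normal]
    (hN : Nat.Coprime (Nat.card N) p) {k : ℕ} (hk : N.index = p ^ k) :
    Cfsg.HasNormalPComplement p G :=
  ⟨default, N, inferInstance, isComplement'_of_coprime_of_index _ N hN hk⟩

/-- `G` has a normal `p`-complement iff some (equivalently every) Sylow `p`-subgroup meets
`O^p(G)` trivially. -/
lemma hasNormalPComplement_iff_inf_eq_bot [Finite G] (P : Sylow p G) :
    Cfsg.HasNormalPComplement p G ↔ (P : Subgroup G) ⊓ Cfsg.pResidual p G = ⊥ := by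
  constructor
  · intro h
    rw [hasNormalPComplement_iff_coprime] at h
    rw [eq_bot_iff]
    rintro x ⟨hxP, hxK⟩
    exact eq_one_of_isPGroup_of_coprime P.2 hxP (coprime_orderOf_of_mem h hxK)
  · intro h
    refine ⟨P, Cfsg.pResidual p G, pResidual_normal,
      Subgroup.isComplement'_of_disjoint_and_mul_eq_univ ?_ ?_⟩
    · exact (disjoint_iff.mpr h).symm
    · rw [← Subgroup.normal_mul, sup_comm, sylow_sup_pResidual, Subgroup.coe_top]

lemma exists_isComplement'_iff [Finite G] (P : Sylow p G) :
    (∃ N : Subgroup G, N.Normal ∧ N.IsComplement' (P : Subgroup G)) ↔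
      Cfsg.HasNormalPComplement p G := by
  refine ⟨fun ⟨N, hN, h⟩ => ⟨P, N, hN, h⟩, fun h => ?_⟩
  obtain ⟨k, hk⟩ := exists_index_pResidual (G := G) (p := p)
  exact ⟨_, pResidual_normal,
    isComplement'_of_coprime_of_index P _ (hasNormalPComplement_iff_coprime.mp h) hk⟩

lemma coprime_card_of_injective {A B : Type*} [Group A] [Group B] (f : A →* B)
    (hf : Function.Injective f) (h : Nat.Coprime (Nat.card B) p) : Nat.Coprime (Nat.card A) p :=
  Nat.Coprime.coprime_dvd_left (Subgroup.card_dvd_of_injective f hf) h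

/-- Normal `p`-complements pass to groups mapping injectively. -/
lemma hasNormalPComplement_of_injective {H : Type*} [Group H] [Finite G] (f : H →* G)
    (hf : Function.Injective f) (h : Cfsg.HasNormalPComplement p G) :
    Cfsg.HasNormalPComplement p H := by
  haveI : Finite H := Finite.of_injective f hf
  rw [hasNormalPComplement_iff_coprime] at h ⊢
  refine Nat.Coprime.coprime_dvd_left ?_ h
  rw [← Subgroup.card_map_of_injective (K := Cfsg.pResidual p H) (f := f) hf]
  exact Subgroup.card_dvd_of_le (map_pResidual_le f)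

lemma hasNormalPComplement_subgroup [Finite G] (h : Cfsg.HasNormalPComplement p G)
    (H : Subgroup G) : Cfsg.HasNormalPComplement p H :=
  hasNormalPComplement_of_injective H.subtype H.subtype_injective h

lemma hasNormalPComplement_of_le [Finite G] {H K : Subgroup G} (hle : H ≤ K)
    (h : Cfsg.HasNormalPComplement p K) : Cfsg.HasNormalPComplement p H :=
  hasNormalPComplement_of_injective (Subgroup.inclusion hle) (Subgroup.inclusion_injective hle) h

lemma hasNormalPComplement_congr {H : Type*} [Group H] [Finite G] (e : G ≃* H) :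
    Cfsg.HasNormalPComplement p G ↔ Cfsg.HasNormalPComplement p H := by
  haveI : Finite H := Finite.of_equiv G e.toEquiv
  exact ⟨hasNormalPComplement_of_injective e.symm.toMonoidHom e.symm.injective,
    hasNormalPComplement_of_injective e.toMonoidHom e.injective⟩

lemma pResidual_map_of_surjective [Finite G] {H : Type*} [Group H] (f : G →* H)
    (hf : Function.Surjective f) : (Cfsg.pResidual p G).map f = Cfsg.pResidual p H := by
  refine le_antisymm (map_pResidual_le f) ?_
  obtain ⟨k, hk⟩ := exists_index_pResidual (G := G) (p := p)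
  have hd : ((Cfsg.pResidual p G).map f).index ∣ p ^ k := by
    rw [← hk]; exact Subgroup.index_map_dvd _ hf
  obtain ⟨j, -, hj⟩ := (Nat.dvd_prime_pow hp.out).mp hd
  haveI : ((Cfsg.pResidual p G).map f).Normal := pResidual_normal.map f hf
  exact pResidual_le_of_index hj

lemma hasNormalPComplement_of_surjective [Finite G] {H : Type*} [Group H] (f : G →* H)
    (hf : Function.Surjective f) (h : Cfsg.HasNormalPComplement p G) :
    Cfsg.HasNormalPComplement p H := by
  haveI : Finite H := Finite.of_surjective f hf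
  rw [hasNormalPComplement_iff_coprime] at h ⊢
  rw [← pResidual_map_of_surjective f hf]
  exact Nat.Coprime.coprime_dvd_left (Subgroup.card_map_dvd _ f) h

/-- In a group with a normal `p`-complement, a normal `p`-subgroup is centralised by all
elements of order prime to `p`. -/
lemma commute_of_hasNormalPComplement [Finite G] (h : Cfsg.HasNormalPComplement p G)
    {Q : Subgroup G} [Q.Normal] (hQ : IsPGroup p Q) {g : G} (hg : Nat.Coprime (orderOf g) p) :
    g ∈ Subgroup.centralizer (Q : Set G) := by
  rw [hasNormalPComplement_iff_coprime] at h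
  intro x hx
  have h1 : g * x * g⁻¹ * x⁻¹ ∈ Q := mul_mem (‹Q.Normal›.conj_mem x hx g) (inv_mem hx)
  have h2 : g * x * g⁻¹ * x⁻¹ ∈ Cfsg.pResidual p G := by
    have hgK := mem_pResidual_of_coprime (p := p) hg
    simpa only [mul_assoc] using mul_mem hgK (pResidual_normal.conj_mem _ (inv_mem hgK) x)
  have := eq_one_of_isPGroup_of_coprime hQ h1 (coprime_orderOf_of_mem h h2)
  rw [mul_inv_eq_one, mul_inv_eq_iff_eq_mul] at this
  exact this.symm

end Cfsg.Agent.Lib.Transfer
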