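import Cfsg.Agent.Lib.Transfer.Tate

/-!
The Frobenius normal `p`-complement theorem.
-/

set_option autoImplicit false

namespace Cfsg.Agent.Lib.Transfer

variable {G : Type*} [Group G] {p : ℕ} [hp : Fact p.Prime]

/-- Normalisers grow in `p`-groups. -/
lemma lt_inf_normalizer [Finite G] {P D : Subgroup G} (hP : IsPGroup p P) (hD : D < P) :
    D < P ⊓ Subgroup.normalizer (D : Set G) := by
  haveI : Group.IsNilpotent P := hP.isNilpotent
  have h1 : D.subgroupOf P < ⊤ := lt_top_iff_ne_top.mpr fun h =>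
    hD.not_ge (Subgroup.subgroupOf_eq_top.mp h)
  have h2 : D.subgroupOf P < Subgroup.normalizer (D.subgroupOf P : Set P) :=
    Group.normalizerCondition_of_isNilpotent _ h1
  rw [← Subgroup.subgroupOf_normalizer_eq hD.le] at h2
  refine lt_of_le_of_ne (le_inf hD.le Subgroup.le_normalizer) fun he => h2.ne ?_
  conv_lhs => rw [he]
  rw [Subgroup.inf_subgroupOf_left]

lemma mem_of_isPGroup_zpowers_of_mem_normalizer [Finite G] (P : Sylow p G) {b : G} {k : ℕ}
    (hb : orderOf b = p ^ k) (hbN : b ∈ Subgroup.normalizer ((P : Subgroup G) : Set G)) :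
    b ∈ (P : Subgroup G) := by
  have hz : IsPGroup p (Subgroup.zpowers b) :=
    IsPGroup.of_card (n := k) (by rw [Nat.card_zpowers, hb])
  have h := hz.inf_normalizer_sylow P
  have : b ∈ Subgroup.zpowers b ⊓ (P : Subgroup G) := h ▸ ⟨Subgroup.mem_zpowers b, hbN⟩
  exact this.2

/-- Strong fusion control under Frobenius' hypothesis. -/
theorem exists_conj_eq_of_frobenius [Finite G] (P : Sylow p G)
    (h : ∀ Q : Subgroup G, Q ≤ (P : Subgroup G) → ∀ g ∈ Subgroup.normalizer (Q : Set G),
      Nat.Coprime (orderOf g) p → g ∈ Subgroup.centralizer (Q : Set G))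
    (g : G) : ∃ z ∈ (P : Subgroup G), ∀ x ∈ (P : Subgroup G), g * x * g⁻¹ ∈ (P : Subgroup G) →
      z * x * z⁻¹ = g * x * g⁻¹ := by
  suffices main : ∀ (n : ℕ) (g : G), Nat.card (P : Subgroup G) ≤
      n + Nat.card ((P : Subgroup G) ⊓ (P : Subgroup G).comap (MulAut.conj g).toMonoidHom :
        Subgroup G) →
      ∃ z ∈ (P : Subgroup G), ∀ x ∈ (P : Subgroup G), g * x * g⁻¹ ∈ (P : Subgroup G) →
        z * x * z⁻¹ = g * x * g⁻¹ from main _ g le_self_add
  intro n
  induction n with
  | zero =>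
    intro g hg
    rw [zero_add] at hg
    have hD : (P : Subgroup G) ≤ (P : Subgroup G).comap (MulAut.conj g).toMonoidHom :=
      inf_eq_left.mp (Subgroup.eq_of_le_of_card_ge inf_le_left hg)
    have hgN : g ∈ Subgroup.normalizer ((P : Subgroup G) : Set G) :=
      (Subgroup.mem_normalizer_iff_map_conj_eq).mpr
        (Subgroup.eq_of_le_of_card_ge (Subgroup.map_le_iff_le_comap.mpr hD)
          (Subgroup.card_map_of_injective (MulAut.conj g).injective).ge)
    obtain ⟨a, b, ha, hb, hac, ⟨k, hk⟩, rfl⟩ := exists_pPart_decomp (p := p) g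
    have haN := (Subgroup.zpowers_le.mpr hgN) ha
    have hbP := mem_of_isPGroup_zpowers_of_mem_normalizer P hk ((Subgroup.zpowers_le.mpr hgN) hb)
    refine ⟨b, hbP, fun x hx _ => ?_⟩
    have h1 := h _ le_rfl a haN hac (b * x * b⁻¹) (mul_mem (mul_mem hbP hx) (inv_mem hbP))
    calc b * x * b⁻¹ = a * (b * x * b⁻¹) * a⁻¹ := by rw [← h1, mul_inv_cancel_right]
      _ = a * b * x * (a * b)⁻¹ := by group
  | succ n ih =>
    intro g hg
    set D := (P : Subgroup G) ⊓ (P : Subgroup G).comap (MulAut.conj g).toMonoidHom with hDdef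
    rcases eq_or_lt_of_le (inf_le_left : D ≤ (P : Subgroup G)) with hDP | hDP
    · refine ih g ?_
      show _ ≤ n + Nat.card D
      rw [show D = (P : Subgroup G) from hDP]
      exact le_add_self
    set E := D.map (MulAut.conj g).toMonoidHom with hEdef
    have hEP : E ≤ (P : Subgroup G) := Subgroup.map_le_iff_le_comap.mpr inf_le_right
    have hcardE : Nat.card E = Nat.card D :=
      Subgroup.card_map_of_injective (MulAut.conj g).injective
    have hEP' : E < (P : Subgroup G) := lt_of_le_of_ne hEP fun he =>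
      hDP.ne (Subgroup.eq_of_le_of_card_ge hDP.le (by rw [← hcardE, he]))
    set M := Subgroup.normalizer (E : Set G) with hMdef
    set N1 := (P : Subgroup G) ⊓ Subgroup.normalizer (D : Set G) with hN1
    have hN1M : N1.map (MulAut.conj g).toMonoidHom ≤ M :=
      (Subgroup.map_mono inf_le_right).trans (Subgroup.le_normalizer_map _)
    have hX : IsPGroup p ((N1.map (MulAut.conj g).toMonoidHom).subgroupOf M) :=
      (IsPGroup.map (P.2.to_le inf_le_left) _).of_equiv (Subgroup.subgroupOfEquivOfLe hN1M).symm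
    have hY : IsPGroup p (((P : Subgroup G) ⊓ M).subgroupOf M) :=
      (P.2.to_le inf_le_left).of_equiv (Subgroup.subgroupOfEquivOfLe inf_le_right).symm
    obtain ⟨S, hS⟩ := hY.exists_le_sylow
    obtain ⟨S', hS'⟩ := hX.exists_le_sylow
    obtain ⟨m, hm⟩ := MulAction.exists_smul_eq M S' S
    let C' := (Subgroup.centralizer (E : Set G)).subgroupOf M
    haveI hC'n : C'.Normal := inferInstance
    have hres : Cfsg.pResidual p M ≤ C' := by
      rw [Cfsg.pResidual, Subgroup.closure_le]
      intro x hx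
      exact h E hEP (x : G) x.2 (by rw [Subgroup.orderOf_coe]; exact hx)
    have hmem : m ∈ (S : Subgroup M) ⊔ C' :=
      (sup_le_sup_left hres _) (by rw [sylow_sup_pResidual]; trivial)
    obtain ⟨s, hs, c, hc, hsc⟩ := Subgroup.mem_sup_of_normal_right.mp hmem
    obtain ⟨R, hR⟩ := (S.2.map M.subtype).exists_le_sylow
    obtain ⟨k, hk⟩ := MulAction.exists_smul_eq G R P
    have hRP : ∀ x ∈ (R : Subgroup G), k * x * k⁻¹ ∈ (P : Subgroup G) := by
      intro x hx
      rw [← hk, Sylow.coe_subgroup_smul]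
      exact Subgroup.smul_mem_pointwise_smul x (MulAut.conj k) _ hx
    have hPMR : (P : Subgroup G) ⊓ M ≤ (R : Subgroup G) := fun x hx =>
      hR (Subgroup.mem_map.mpr ⟨⟨x, hx.2⟩, hS hx, rfl⟩)
    have hN1R : ∀ x ∈ N1, (c : G) * (g * x * g⁻¹) * (c : G)⁻¹ ∈ (R : Subgroup G) := by
      intro x hx
      have hy : g * x * g⁻¹ ∈ N1.map (MulAut.conj g).toMonoidHom := ⟨x, hx, rfl⟩
      let y' : M := ⟨g * x * g⁻¹, hN1M hy⟩
      have h1 : m * y' * m⁻¹ ∈ (S : Subgroup M) := by
        rw [← hm, Sylow.coe_subgroup_smul]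
        exact Subgroup.smul_mem_pointwise_smul y' (MulAut.conj m) _ (hS' hy)
      have h2 : c * y' * c⁻¹ ∈ (S : Subgroup M) := by
        have := mul_mem (mul_mem (inv_mem hs) h1) hs
        rw [← hsc] at this
        simpa [mul_assoc] using this
      exact hR (Subgroup.mem_map.mpr ⟨_, h2, rfl⟩)
    have step : ∀ (g' : G) (D' : Subgroup G), D' ≤ (P : Subgroup G) →
        (∀ x ∈ D', g' * x * g'⁻¹ ∈ (P : Subgroup G)) → Nat.card D < Nat.card D' →
        ∃ z ∈ (P : Subgroup G), ∀ x ∈ (P : Subgroup G), g' * x * g'⁻¹ ∈ (P : Subgroup G) →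
          z * x * z⁻¹ = g' * x * g'⁻¹ := by
      intro g' D' h1 h2 h3
      refine ih g' ?_
      have : Nat.card D' ≤ Nat.card ((P : Subgroup G) ⊓
          (P : Subgroup G).comap (MulAut.conj g').toMonoidHom : Subgroup G) :=
        Subgroup.card_le_of_le (le_inf h1 fun x hx => h2 x hx)
      omega
    have hD_lt : Nat.card D < Nat.card N1 :=
      Set.Finite.card_lt_card (Set.toFinite _) (lt_inf_normalizer P.2 hDP)
    have hE_lt : Nat.card D < Nat.card ((P : Subgroup G) ⊓ M : Subgroup G) := by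
      rw [← hcardE]
      exact Set.Finite.card_lt_card (Set.toFinite _) (lt_inf_normalizer P.2 hEP')
    obtain ⟨z, hz, hzeq⟩ := step k _ inf_le_left (fun x hx => hRP x (hPMR hx)) hE_lt
    obtain ⟨w, hw, hweq⟩ := step (k * (c : G) * g) N1 inf_le_left (fun x hx => by
      have := hRP _ (hN1R x hx)
      simpa [mul_assoc] using this) hD_lt
    refine ⟨z⁻¹ * w, mul_mem (inv_mem hz) hw, fun x hx hgx => ?_⟩
    have hxD : x ∈ D := ⟨hx, hgx⟩
    have hxN1 : x ∈ N1 := ⟨hx, Subgroup.le_normalizer hxD⟩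
    have hyE : g * x * g⁻¹ ∈ E := ⟨x, hxD, rfl⟩
    have e0 : g * x * g⁻¹ * (c : G) = (c : G) * (g * x * g⁻¹) := hc _ hyE
    have e1 : (c : G) * (g * x * g⁻¹) * (c : G)⁻¹ = g * x * g⁻¹ := by
      rw [← e0, mul_inv_cancel_right]
    have e2 := hzeq _ hgx (hRP _ (hPMR ⟨hgx, Subgroup.le_normalizer hyE⟩))
    have e3 := hweq x hx (by
      have := hRP _ (hN1R x hxN1)
      simpa [mul_assoc] using this)
    have e4 : w * x * w⁻¹ = z * (g * x * g⁻¹) * z⁻¹ := by
      rw [e3, e2]
      calc k * (c : G) * g * x * (k * (c : G) * g)⁻¹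
          = k * ((c : G) * (g * x * g⁻¹) * (c : G)⁻¹) * k⁻¹ := by group
        _ = k * (g * x * g⁻¹) * k⁻¹ := by rw [e1]
    calc z⁻¹ * w * x * (z⁻¹ * w)⁻¹ = z⁻¹ * (w * x * w⁻¹) * z := by group
      _ = g * x * g⁻¹ := by rw [e4]; group

/-- **Frobenius' normal `p`-complement theorem**. -/
theorem hasNormalPComplement_of_frobenius [Finite G] (P : Sylow p G)
    (h : ∀ Q : Subgroup G, Q ≤ (P : Subgroup G) → ∀ g ∈ Subgroup.normalizer (Q : Set G),
      Nat.Coprime (orderOf g) p → g ∈ Subgroup.centralizer (Q : Set G)) :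
    Cfsg.HasNormalPComplement p G := by
  refine hasNormalPComplement_of_controlsFusion P fun x hx g hg => ?_
  obtain ⟨z, hz, heq⟩ := exists_conj_eq_of_frobenius P h g
  exact ⟨z, hz, heq x hx hg⟩

/-- If every nontrivial `p`-subgroup has a normaliser with a normal `p`-complement, so does `G`. -/
theorem hasNormalPComplement_of_local [Finite G]
    (h : ∀ Q : Subgroup G, IsPGroup p Q → Q ≠ ⊥ →
      Cfsg.HasNormalPComplement p (Subgroup.normalizer (Q : Set G))) :
    Cfsg.HasNormalPComplement p G := by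
  refine hasNormalPComplement_of_frobenius default fun Q hQ g hg hgo => ?_
  by_cases hQb : Q = ⊥
  · subst hQb
    intro x hx
    rw [SetLike.mem_coe, Subgroup.mem_bot] at hx
    simp [hx]
  have hQp : IsPGroup p Q := (default : Sylow p G).2.to_le hQ
  haveI : (Q.subgroupOf (Subgroup.normalizer (Q : Set G))).Normal :=
    Subgroup.normal_in_normalizer
  have := commute_of_hasNormalPComplement (h Q hQp hQb)
    (hQp.of_equiv (Subgroup.subgroupOfEquivOfLe Subgroup.le_normalizer).symm)
    (g := ⟨g, hg⟩) (by rw [Subgroup.orderOf_mk]; exact hgo)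
  intro x hx
  exact congrArg Subtype.val (this ⟨x, Subgroup.le_normalizer hx⟩ hx)

/-- Burnside's criterion. -/
theorem hasNormalPComplement_of_normalizer_le_centralizer [Finite G] (P : Sylow p G)
    (hP : Subgroup.normalizer ((P : Subgroup G) : Set G) ≤
      Subgroup.centralizer ((P : Subgroup G) : Set G)) : Cfsg.HasNormalPComplement p G :=
  ⟨P, _, inferInstance, MonoidHom.ker_transferSylow_isComplement' P hP⟩

end Cfsg.Agent.Lib.Transfer
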