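import Cfsg.Agent.Lib.Transfer.Frobenius
import Mathlib.GroupTheory.GroupAction.ConjAct

/-!
Abelian Sylow subgroups with no room for `p'`-automorphisms.
-/

set_option autoImplicit false

namespace Cfsg.Agent.Lib.Transfer

variable {G : Type*} [Group G] {p : ℕ} [hp : Fact p.Prime]

/-- If `|P| = p^k`, `P` is abelian and no prime `q ≠ p` dividing `|G|` divides some
`p^k - p^i` (`i < k`), then `N_G(P) = C_G(P)`. -/
theorem normalizer_le_centralizer_of_card [Finite G] (P : Sylow p G)
    (hP : IsMulCommutative (P : Subgroup G)) {k : ℕ} (hk : Nat.card (P : Subgroup G) = p ^ k)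
    (h : ∀ q : ℕ, q.Prime → q ≠ p → q ∣ Nat.card G → ∀ i < k, ¬ q ∣ p ^ k - p ^ i) :
    Subgroup.normalizer ((P : Subgroup G) : Set G) ≤
      Subgroup.centralizer ((P : Subgroup G) : Set G) := by
  haveI := hP
  set N := Subgroup.normalizer ((P : Subgroup G) : Set G) with hN
  set C := Subgroup.centralizer ((P : Subgroup G) : Set G) with hC
  by_contra hle
  haveI : (C.subgroupOf N).Normal := Subgroup.normal_subgroupOf_centralizer_normalizer _
  have hne : (C.subgroupOf N).index ≠ 1 := fun h1 =>
    hle (Subgroup.subgroupOf_eq_top.mp (Subgroup.index_eq_one.mp h1))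
  obtain ⟨q, hq, hqd⟩ := Nat.exists_prime_and_dvd hne
  haveI : Fact q.Prime := ⟨hq⟩
  have hPC : (P : Subgroup G) ≤ C := (P : Subgroup G).le_centralizer
  have hqp : q ≠ p := by
    rintro rfl
    apply P.not_dvd_index
    exact hqd.trans ((Subgroup.relIndex_dvd_of_le_left N hPC).trans
      (Subgroup.relIndex_dvd_index_of_le Subgroup.le_normalizer))
  have hqG : q ∣ Nat.card G :=
    hqd.trans ((C.subgroupOf N).index_dvd_card.trans (Subgroup.card_subgroup_dvd_card N))
  obtain ⟨x, hx⟩ := exists_prime_orderOf_dvd_card' (G := N ⧸ C.subgroupOf N) q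
    (by rwa [← Subgroup.index_eq_card])
  obtain ⟨g, rfl⟩ := QuotientGroup.mk'_surjective (C.subgroupOf N) x
  obtain ⟨a, b, -, -, ha, ⟨j, hj⟩, rfl⟩ := exists_pPart_decomp (p := q) g
  by_cases hb : (b : G) ∈ C
  · rw [map_mul, show QuotientGroup.mk' (C.subgroupOf N) b = 1 from
      (QuotientGroup.eq_one_iff (N := C.subgroupOf N) b).mpr hb, mul_one] at hx
    have := Nat.Coprime.coprime_dvd_left (orderOf_map_dvd (QuotientGroup.mk' (C.subgroupOf N)) a) ha
    rw [hx, Nat.coprime_self] at this
    exact hq.ne_one this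
  -- `b` acts nontrivially on `P`
  let B := Subgroup.zpowers b
  have hB : IsPGroup q B := IsPGroup.of_card (n := j) (by rw [Nat.card_zpowers, hj])
  letI : MulAction B (P : Subgroup G) :=
    MulAction.compHom _ ((Subgroup.normalizerMonoidHom (P : Subgroup G)).comp B.subtype)
  have hact : ∀ (c : B) (y : (P : Subgroup G)), ((c • y : (P : Subgroup G)) : G) =
      ((c : N) : G) * y * ((c : N) : G)⁻¹ := fun c y => rfl
  set F := (P : Subgroup G) ⊓ Subgroup.centralizer {(b : G)} with hF
  have hfix : Nat.card (MulAction.fixedPoints B (P : Subgroup G)) = Nat.card F := by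
    refine Nat.card_congr
      { toFun := fun y => ⟨(y.1 : G), y.1.2, ?_⟩
        invFun := fun y => ⟨⟨(y : G), y.2.1⟩, ?_⟩
        left_inv := fun y => rfl
        right_inv := fun y => rfl }
    · have h1 := congrArg Subtype.val (y.2 (⟨b, Subgroup.mem_zpowers b⟩ : B))
      rw [hact] at h1
      exact Subgroup.mem_centralizer_singleton_iff.mpr (mul_inv_eq_iff_eq_mul.mp h1).symm
    · rintro ⟨c, hc⟩
      apply Subtype.ext
      rw [hact]
      obtain ⟨n, rfl⟩ := Subgroup.mem_zpowers_iff.mp hc
      have h1 : Commute (b : G) (y : G) :=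
        ((Subgroup.mem_centralizer_singleton_iff.mp y.2.2) : _).symm
      have h2 := h1.zpow_left n
      simp only [SubgroupClass.coe_zpow]
      rw [h2.eq, mul_inv_cancel_right]
  obtain ⟨i, hik, hi⟩ := (Nat.dvd_prime_pow hp.out).mp
    (hk ▸ Subgroup.card_dvd_of_le (inf_le_left : F ≤ (P : Subgroup G)))
  have hlt : i < k := lt_of_le_of_ne hik fun he => hb (by
    have hFP : F = (P : Subgroup G) := Subgroup.eq_of_le_of_card_ge inf_le_left
      (le_of_eq (by rw [hk, hi, he]))
    rw [hC, Subgroup.mem_centralizer_iff]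
    intro y hy
    exact Subgroup.mem_centralizer_singleton_iff.mp (hFP.ge hy).2)
  refine h q hq hqp hqG i hlt ?_
  have hmod := hB.card_modEq_card_fixedPoints (α := (P : Subgroup G))
  rw [hfix, hk, hi] at hmod
  exact (Nat.modEq_iff_dvd' (Nat.pow_le_pow_right hp.out.pos hik)).mp hmod.symm

theorem hasNormalPComplement_of_card [Finite G] (P : Sylow p G)
    (hP : IsMulCommutative (P : Subgroup G)) {k : ℕ} (hk : Nat.card (P : Subgroup G) = p ^ k)
    (h : ∀ q : ℕ, q.Prime → q ≠ p → q ∣ Nat.card G → ∀ i < k, ¬ q ∣ p ^ k - p ^ i) :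
    Cfsg.HasNormalPComplement p G :=
  hasNormalPComplement_of_normalizer_le_centralizer P (normalizer_le_centralizer_of_card P hP hk h)

/-- A simple group with a normal `p`-complement is a `p`-group or has order prime to `p`. -/
theorem isPGroup_of_simple [Finite G] [IsSimpleGroup G] (h : Cfsg.HasNormalPComplement p G)
    (hd : p ∣ Nat.card G) : IsPGroup p G := by
  obtain ⟨P, N, hN, hc⟩ := h
  rcases IsSimpleGroup.eq_bot_or_eq_top_of_normal N hN with rfl | rfl
  · rw [Subgroup.isComplement'_bot_left] at hc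
    exact fun g => by
      obtain ⟨j, hj⟩ := P.2 ⟨g, hc ▸ Subgroup.mem_top g⟩
      exact ⟨j, congrArg Subtype.val hj⟩
  · rw [Subgroup.isComplement'_top_left] at hc
    exact absurd hc (Sylow.ne_bot_of_dvd_card P hd)

end Cfsg.Agent.Lib.Transfer
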