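import Mathlib.GroupTheory.Focal
import Cfsg.Agent.Lib.Transfer.Basic

/-!
Focal subgroups, control of fusion, and `O^p`.
-/

set_option autoImplicit false

namespace Cfsg.Agent.Lib.Transfer

open scoped commutatorElement

variable {G : Type*} [Group G]

/-- `H` controls `G`-fusion of the elements of `P` (elementwise). -/
def ControlsFusion (H P : Subgroup G) : Prop :=
  ∀ x ∈ P, ∀ g : G, g * x * g⁻¹ ∈ P → ∃ h ∈ H, h * x * h⁻¹ = g * x * g⁻¹

lemma focalSubgroup_le_iff (H K : Subgroup G) :
    Subgroup.focalSubgroup H ≤ K ↔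
      ∀ y ∈ H, ∀ g : G, g * y * g⁻¹ ∈ H → y⁻¹ * (g * y * g⁻¹) ∈ K := by
  rw [Subgroup.focalSubgroup_def, Subgroup.closure_le]
  constructor
  · intro h y hy g hg
    refine h ⟨mul_mem (inv_mem hy) hg, y⁻¹, inv_mem hy, g, ?_⟩
    rw [commutatorElement_def, inv_inv]
    group
  · rintro h z ⟨hz, x, hx, u, rfl⟩
    have h1 : ⁅x, u⁆ = x⁻¹⁻¹ * (u * x⁻¹ * u⁻¹) := by
      rw [commutatorElement_def, inv_inv]; group
    rw [h1]
    refine h _ (inv_mem hx) u ?_
    have := mul_mem (inv_mem hx) hz
    rw [commutatorElement_def] at this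
    simpa [mul_assoc] using this

lemma focalSubgroup_le_commutator_of_controlsFusion {H P : Subgroup G} (hP : P ≤ H)
    (h : ControlsFusion H P) : Subgroup.focalSubgroup P ≤ ⁅H, H⁆ := by
  rw [focalSubgroup_le_iff]
  intro y hy g hg
  obtain ⟨k, hk, hkeq⟩ := h y hy g hg
  rw [← hkeq]
  have : y⁻¹ * (k * y * k⁻¹) = ⁅y⁻¹, k⁆ := by rw [commutatorElement_def, inv_inv]; group
  rw [this]
  exact Subgroup.commutator_mem_commutator (inv_mem (hP hy)) hk

lemma commutator_subgroup_le (H : Subgroup G) : ⁅H, H⁆ ≤ commutator G := by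
  rw [commutator_def]; exact Subgroup.commutator_mono le_top le_top

variable {p : ℕ} [hp : Fact p.Prime]

/-- If `H` contains the Sylow subgroup `P` and controls fusion in it then `P ∩ G' = P ∩ H'`. -/
lemma commutator_inf_eq_of_controlsFusion [Finite G] (P : Sylow p G) {H : Subgroup G}
    (hP : (P : Subgroup G) ≤ H) (h : ControlsFusion H (P : Subgroup G)) :
    commutator G ⊓ (P : Subgroup G) = ⁅H, H⁆ ⊓ (P : Subgroup G) := by
  refine le_antisymm ?_ (inf_le_inf_right _ (commutator_subgroup_le H))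
  rw [Subgroup.commutator_inf_eq_focalSubgroup P]
  exact le_inf (focalSubgroup_le_commutator_of_controlsFusion hP h)
    (P : Subgroup G).focalSubgroup_le

/-- The transfer into `P/P*` kills `O^p(G)`, so `P ∩ O^p(G)` lies in the focal subgroup. -/
lemma inf_pResidual_le_focalSubgroup [Finite G] (P : Sylow p G) :
    (P : Subgroup G) ⊓ Cfsg.pResidual p G ≤ Subgroup.focalSubgroup (P : Subgroup G) := by
  rw [← Subgroup.ker_transferFocal_inf_eq_focalSubgroup P, inf_comm (P : Subgroup G)]
  exact inf_le_inf_right _ (pResidual_le_ker (P.2.to_quotient _) _)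

lemma inf_pResidual_le_commutator [Finite G] (P : Sylow p G) :
    (P : Subgroup G) ⊓ Cfsg.pResidual p G ≤ commutator G :=
  (inf_pResidual_le_focalSubgroup P).trans (Subgroup.focalSubgroup_le_commutator _)

/-- Burnside: in an abelian Sylow subgroup fusion is controlled by the normaliser. -/
lemma controlsFusion_normalizer_of_abelian [Finite G] (P : Sylow p G)
    (hP : IsMulCommutative (P : Subgroup G)) :
    ControlsFusion (Subgroup.normalizer ((P : Subgroup G) : Set G)) (P : Subgroup G) := by
  intro x hx g hg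
  haveI : IsMulCommutative (P : Subgroup G) := hP
  obtain ⟨n, hn, h⟩ := P.conj_eq_normalizer_conj_of_mem x g⁻¹ hx
    (by rw [inv_inv]; exact hg)
  refine ⟨n⁻¹, inv_mem hn, ?_⟩
  simpa using h.symm

lemma commutator_lt_self {P : Subgroup G} [Finite P] (hP : IsPGroup p P) (h : P ≠ ⊥) :
    ⁅P, P⁆ < P := by
  haveI : Group.IsNilpotent P := hP.isNilpotent
  haveI : Nontrivial P := (Subgroup.nontrivial_iff_ne_bot P).mpr h
  have h1 : commutator P ≠ ⊤ := (Group.IsSolvable.commutator_lt_top_of_nontrivial P).ne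
  refine lt_of_le_of_ne (by rw [← Subgroup.map_subtype_commutator]; exact Subgroup.map_subtype_le _) ?_
  intro he
  apply h1
  apply Subgroup.map_injective P.subtype_injective
  rw [Subgroup.map_subtype_commutator, he, ← MonoidHom.range_eq_map, Subgroup.range_subtype]

end Cfsg.Agent.Lib.Transfer
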