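import Cfsg.Agent.Lib.Transfer.Focal

/-!
Tate's theorem, proved with the transfer: if `H` has index prime to `p` and every homomorphism
`H →* A` to a group of order `p` kills `O^p(G) ∩ H`, then `O^p(G) ∩ H = O^p(H)`.
-/

set_option autoImplicit false

namespace Cfsg.Agent.Lib.Transfer

universe u

variable {G : Type u} [Group G] {p : ℕ} [hp : Fact p.Prime]

/-- A nontrivial normal subgroup of a finite `p`-group contains a central element of order `p`. -/
lemma exists_central_orderOf_eq {Q : Type*} [Group Q] [Finite Q] (hQ : IsPGroup p Q)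
    (L : Subgroup Q) [L.Normal] (hL : L ≠ ⊥) :
    ∃ z ∈ L, z ∈ Subgroup.center Q ∧ orderOf z = p := by
  have hLp : IsPGroup p L := hQ.to_subgroup L
  obtain ⟨n, hn⟩ := IsPGroup.iff_card.mp hLp
  have hn0 : n ≠ 0 := by
    rintro rfl
    exact hL (Subgroup.card_eq_one.mp (by simpa using hn))
  have hdvd : p ∣ Nat.card L := hn ▸ dvd_pow_self p hn0
  have hQ' : IsPGroup p (ConjAct Q) := fun g => hQ (ConjAct.ofConjAct g)
  have h1 : (1 : L) ∈ MulAction.fixedPoints (ConjAct Q) L := fun g => smul_one g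
  obtain ⟨b, hb, hb1⟩ :=
    hQ'.exists_fixed_point_of_prime_dvd_card_of_fixed_point (α := L) hdvd h1
  have hcen : (b : Q) ∈ Subgroup.center Q := by
    rw [Subgroup.mem_center_iff]
    intro g
    have h2 := congrArg Subtype.val (hb (ConjAct.toConjAct g))
    rw [ConjAct.Subgroup.val_conj_smul, ConjAct.toConjAct_smul] at h2
    exact mul_inv_eq_iff_eq_mul.mp h2
  have hbne : (b : Q) ≠ 1 := fun h => hb1 (Subtype.ext h.symm)
  obtain ⟨k, hk⟩ := IsPGroup.iff_orderOf.mp hQ (b : Q)
  obtain ⟨m, rfl⟩ : ∃ m, k = m + 1 := Nat.exists_eq_succ_of_ne_zero (by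
    rintro rfl
    exact hbne (orderOf_eq_one_iff.mp (by simpa using hk)))
  refine ⟨(b : Q) ^ p ^ m, pow_mem b.2 _, pow_mem hcen _, orderOf_eq_prime ?_ ?_⟩
  · rw [← pow_mul, ← pow_succ, ← hk, pow_orderOf_eq_one]
  · intro h
    have := Nat.le_of_dvd (pow_pos hp.out.pos _) (hk ▸ orderOf_dvd_of_pow_eq_one h)
    exact absurd this (not_le.mpr (Nat.pow_lt_pow_right hp.out.one_lt (Nat.lt_succ_self m)))

open scoped IsMulCommutative in
/-- The transfer step: a central extension of order `p` of `G / O^p(G)` seen in `H` must split. -/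
lemma exists_hom_ne_one [Finite G] (H : Subgroup G) (hH : ¬ p ∣ H.index) (N : Subgroup H)
    [N.Normal] (hN : IsPGroup p (H ⧸ N)) (hNK : N ≤ (Cfsg.pResidual p G).subgroupOf H)
    (hcard : Nat.card (((Cfsg.pResidual p G).subgroupOf H).map (QuotientGroup.mk' N)) = p)
    (hcent : ((Cfsg.pResidual p G).subgroupOf H).map (QuotientGroup.mk' N) ≤
      Subgroup.center (H ⧸ N)) :
    ∃ (A : Type u) (_ : Group A) (δ : H →* A), Nat.card A = p ∧
      ∃ x ∈ (Cfsg.pResidual p G).subgroupOf H, δ x ≠ 1 := by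
  classical
  set K := Cfsg.pResidual p G with hK
  set β : H ⧸ N →* G ⧸ K := QuotientGroup.lift N ((QuotientGroup.mk' K).comp H.subtype)
    (fun h hh => by
      show QuotientGroup.mk (h : G) = (1 : G ⧸ K)
      exact (QuotientGroup.eq_one_iff _).mpr (hNK hh)) with hβdef
  have hβ : ∀ h : H, β (QuotientGroup.mk h) = QuotientGroup.mk (h : G) := fun h => rfl
  set Z := (K.subgroupOf H).map (QuotientGroup.mk' N) with hZdef
  have hZ : β.ker = Z := by
    ext e
    induction e using QuotientGroup.induction_on with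
    | H h =>
      rw [MonoidHom.mem_ker, hβ, QuotientGroup.eq_one_iff, hZdef, Subgroup.mem_map]
      constructor
      · exact fun hh => ⟨h, hh, rfl⟩
      · rintro ⟨h', hh', he⟩
        have hmem : h'⁻¹ * h ∈ N := QuotientGroup.eq.mp he
        have := mul_mem (show (h' : G) ∈ K from hh') (hNK hmem)
        simpa using this
  have hcomm : ∀ z ∈ Z, ∀ e : H ⧸ N, z * e = e * z := fun z hz e =>
    ((Subgroup.mem_center_iff.mp (hcent hz)) e).symm
  have hHK : H ⊔ K = ⊤ := by
    rw [← Subgroup.index_eq_one]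
    obtain ⟨k, hk⟩ := exists_index_pResidual (G := G) (p := p)
    refine Nat.eq_one_of_dvd_coprimes ?_ (Subgroup.index_dvd_of_le (le_sup_left (b := K)))
      (Subgroup.index_dvd_of_le (le_sup_right (a := H)))
    rw [hK, hk]
    exact Nat.Coprime.pow_right k ((coprime_iff_not_dvd _).mpr hH)
  have hβs : Function.Surjective β := by
    intro q
    induction q using QuotientGroup.induction_on with
    | H g =>
      obtain ⟨h, hh, k, hk, rfl⟩ := Subgroup.mem_sup_of_normal_right.mp
        (hHK ▸ Subgroup.mem_top g : g ∈ H ⊔ K)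
      exact ⟨QuotientGroup.mk ⟨h, hh⟩, by
        rw [hβ, QuotientGroup.mk_mul, (QuotientGroup.eq_one_iff k).mpr hk, mul_one]⟩
  let Ghat : Subgroup (G × (H ⧸ N)) :=
    ((QuotientGroup.mk' K).comp (MonoidHom.fst G (H ⧸ N))).eqLocus
      (β.comp (MonoidHom.snd G (H ⧸ N)))
  have hGhat : ∀ x : G × (H ⧸ N), x ∈ Ghat ↔ QuotientGroup.mk x.1 = β x.2 := fun _ => Iff.rfl
  let fst' : Ghat →* G := (MonoidHom.fst G (H ⧸ N)).comp Ghat.subtype
  let snd' : Ghat →* H ⧸ N := (MonoidHom.snd G (H ⧸ N)).comp Ghat.subtype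
  have hfst : Function.Surjective fst' := by
    intro g
    obtain ⟨e, he⟩ := hβs (QuotientGroup.mk g)
    exact ⟨⟨(g, e), (hGhat _).mpr he.symm⟩, rfl⟩
  let Phat : Subgroup Ghat := H.comap fst'
  have hPindex : Phat.index = H.index := Subgroup.index_comap_of_surjective H hfst
  haveI : IsMulCommutative Z :=
    ⟨⟨fun a b => Subtype.ext (hcomm a a.2 b)⟩⟩
  let π : H →* H ⧸ N := QuotientGroup.mk' N
  let hP : Phat →* H :=
    { toFun := fun x => ⟨fst' x.1, x.2⟩
      map_one' := rfl
      map_mul' := fun _ _ => rfl }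
  have hmemZ : ∀ x : Phat, (π (hP x))⁻¹ * snd' x.1 ∈ Z := by
    intro x
    rw [← hZ, MonoidHom.mem_ker, map_mul, map_inv]
    show (β (QuotientGroup.mk (hP x)))⁻¹ * _ = 1
    rw [hβ, inv_mul_eq_one]
    exact x.1.2
  let φ : Phat →* Z :=
    { toFun := fun x => ⟨(π (hP x))⁻¹ * snd' x.1, hmemZ x⟩
      map_one' := Subtype.ext (by simp)
      map_mul' := fun a b => Subtype.ext (by
        have h1 := hcomm _ (hmemZ a) (π (hP b))⁻¹
        show (π (hP (a * b)))⁻¹ * snd' (a.1 * b.1) =
          ((π (hP a))⁻¹ * snd' a.1) * ((π (hP b))⁻¹ * snd' b.1)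
        rw [map_mul, map_mul, map_mul, mul_inv_rev, ← mul_assoc ((π (hP a))⁻¹ * snd' a.1), h1]
        group) }
  let τ : Ghat →* Z := MonoidHom.transfer φ
  have hZp : IsPGroup p Z := IsPGroup.of_card (n := 1) (by simpa using hcard)
  have hcop : ¬ p ∣ H.index := hH
  let pw : Z ≃ Z := hZp.powEquiv' hcop
  have hpw : ∀ z : Z, pw z = z ^ H.index := fun z => rfl
  have hpwmul : ∀ a b : Z, pw.symm (a * b) = pw.symm a * pw.symm b := by
    intro a b
    apply pw.injective
    rw [Equiv.apply_symm_apply, hpw, mul_pow, ← hpw, ← hpw, Equiv.apply_symm_apply,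
      Equiv.apply_symm_apply]
  have hsymm1 : pw.symm 1 = 1 := by
    apply pw.injective; rw [Equiv.apply_symm_apply, hpw, one_pow]
  let σ : Ghat →* H ⧸ N :=
    { toFun := fun x => snd' x * ((pw.symm (τ x) : Z) : H ⧸ N)⁻¹
      map_one' := by rw [map_one, map_one, hsymm1]; simp
      map_mul' := fun a b => by
        rw [map_mul, map_mul, hpwmul, Subgroup.coe_mul, mul_inv_rev]
        have h1 := hcomm _ (inv_mem (pw.symm (τ a)).2) (snd' b * ((pw.symm (τ b) : Z) : H ⧸ N)⁻¹)
        rw [mul_assoc (snd' a) _ (snd' b * _), h1]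
        group }
  have hσβ : ∀ x : Ghat, β (σ x) = QuotientGroup.mk (fst' x) := by
    intro x
    show β (snd' x * ((pw.symm (τ x) : Z) : H ⧸ N)⁻¹) = _
    rw [map_mul, map_inv, show β ((pw.symm (τ x) : Z) : H ⧸ N) = 1 from
      MonoidHom.mem_ker.mp (hZ.ge (pw.symm (τ x)).2), inv_one, mul_one]
    exact x.2.symm
  have hker : fst'.ker ≤ σ.ker := by
    intro x hx
    rw [MonoidHom.mem_ker] at hx ⊢
    have hz : snd' x ∈ Z := by
      rw [← hZ, MonoidHom.mem_ker]
      exact (x.2.symm).trans (by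
        show QuotientGroup.mk (fst' x) = _
        rw [hx]; rfl)
    have hxc : x ∈ Subgroup.center Ghat := by
      rw [Subgroup.mem_center_iff]
      intro y
      apply Subtype.ext
      apply Prod.ext
      · show fst' y * fst' x = fst' x * fst' y
        rw [hx, one_mul, mul_one]
      · exact (hcomm _ hz _).symm
    have hxP : x ∈ Phat := by
      show fst' x ∈ H
      rw [hx]; exact one_mem H
    have hτ : τ x = (⟨snd' x, hz⟩ : Z) ^ Phat.index := by
      have key : ∀ (k : ℕ) (g₀ : Ghat), g₀⁻¹ * x ^ k * g₀ ∈ Phat → g₀⁻¹ * x ^ k * g₀ = x ^ k := by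
        intro k g₀ _
        rw [mul_assoc, ← Subgroup.mem_center_iff.mp (pow_mem hxc k) g₀, inv_mul_cancel_left]
      rw [show τ x = _ from MonoidHom.transfer_eq_pow φ x key]
      have e1 : (⟨x ^ Phat.index, MonoidHom.transfer_eq_pow_aux x key⟩ : Phat)
          = (⟨x, hxP⟩ : Phat) ^ Phat.index := Subtype.ext (by simp)
      rw [e1, map_pow]
      congr 1
      apply Subtype.ext
      show (π (hP ⟨x, hxP⟩))⁻¹ * snd' x = snd' x
      rw [show hP ⟨x, hxP⟩ = 1 from Subtype.ext hx, map_one, inv_one, one_mul]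
    show snd' x * ((pw.symm (τ x) : Z) : H ⧸ N)⁻¹ = 1
    rw [hτ, hPindex, ← hpw, Equiv.symm_apply_apply, mul_inv_cancel]
  let s : G →* H ⧸ N := MonoidHom.liftOfSurjective fst' hfst ⟨σ, hker⟩
  have hs : ∀ x, s (fst' x) = σ x := fun x =>
    MonoidHom.liftOfRightInverse_comp_apply fst' _ _ ⟨σ, hker⟩ x
  have hsβ : ∀ g : G, β (s g) = QuotientGroup.mk g := by
    intro g
    obtain ⟨x, rfl⟩ := hfst g
    rw [hs, hσβ]
  have hsK : ∀ g ∈ K, s g = 1 := fun g hg => MonoidHom.mem_ker.mp (pResidual_le_ker hN s hg)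
  have hδmem : ∀ h : H, (s (h : G))⁻¹ * π h ∈ Z := by
    intro h
    rw [← hZ, MonoidHom.mem_ker, map_mul, map_inv, hsβ, inv_mul_eq_one]
    exact (hβ h).symm
  let δ : H →* Z :=
    { toFun := fun h => ⟨(s (h : G))⁻¹ * π h, hδmem h⟩
      map_one' := Subtype.ext (by simp)
      map_mul' := fun a b => Subtype.ext (by
        show (s ((a : G) * (b : G)))⁻¹ * π (a * b) = ((s (a : G))⁻¹ * π a) * ((s (b : G))⁻¹ * π b)
        have h1 := hcomm _ (hδmem a) (s (b : G))⁻¹
        rw [map_mul, map_mul, mul_inv_rev, ← mul_assoc ((s (a : G))⁻¹ * π a), h1]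
        group) }
  refine ⟨Z, inferInstance, δ, hcard, ?_⟩
  have hne : Z ≠ ⊥ := by
    intro h
    rw [h, Subgroup.card_bot] at hcard
    exact hp.out.one_lt.ne hcard
  obtain ⟨⟨z, hz⟩, hz'⟩ := Subgroup.ne_bot_iff_exists_ne_one.mp hne
  have hz1 : z ≠ 1 := fun h => hz' (Subtype.ext h)
  obtain ⟨x, hx, hxz⟩ := Subgroup.mem_map.mp hz
  refine ⟨x, hx, fun h => hz1 ?_⟩
  have h2 : (s (x : G))⁻¹ * π x = 1 := congrArg Subtype.val h
  rw [hsK (x : G) hx, inv_one, one_mul] at h2
  exact hxz ▸ h2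

/-- **Tate's theorem** (homomorphism form). -/
theorem subgroupOf_pResidual_eq [Finite G] (H : Subgroup G) (hH : ¬ p ∣ H.index)
    (hyp : ∀ (A : Type u) [Group A], Nat.card A = p → ∀ δ : H →* A,
      (Cfsg.pResidual p G).subgroupOf H ≤ δ.ker) :
    (Cfsg.pResidual p G).subgroupOf H = Cfsg.pResidual p H := by
  refine le_antisymm ?_ (pResidual_le_subgroupOf H)
  by_contra hle
  set L := (Cfsg.pResidual p G).subgroupOf H with hL
  -- a normal subgroup maximal among those strictly below `L` containing `O^p(H)`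
  obtain ⟨N, hN⟩ := (Set.toFinite {N : Subgroup H | N.Normal ∧ Cfsg.pResidual p H ≤ N ∧ N < L}
    ).exists_maximal ⟨Cfsg.pResidual p H, pResidual_normal, le_rfl,
      lt_of_le_of_ne (pResidual_le_subgroupOf H) (fun h => hle h.ge)⟩
  obtain ⟨⟨hNn, hKN, hNL⟩, hmax⟩ := hN
  haveI := hNn
  haveI hLn : L.Normal := (pResidual_normal (G := G) (p := p)).subgroupOf H
  obtain ⟨k, hk⟩ := exists_index_pResidual (G := H) (p := p)
  have hQ : IsPGroup p (H ⧸ N) := by
    obtain ⟨j, -, hj⟩ := (Nat.dvd_prime_pow hp.out).mp (hk ▸ Subgroup.index_dvd_of_le hKN)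
    exact IsPGroup.of_card hj
  haveI : (L.map (QuotientGroup.mk' N)).Normal :=
    hLn.map _ (QuotientGroup.mk'_surjective N)
  have hne : L.map (QuotientGroup.mk' N) ≠ ⊥ := by
    rw [ne_eq, Subgroup.map_eq_bot_iff, QuotientGroup.ker_mk']
    exact fun h => hNL.not_ge h
  obtain ⟨z, hzL, hzc, hzo⟩ := exists_central_orderOf_eq hQ _ hne
  haveI : (Subgroup.zpowers z).Normal := ⟨fun a ha g => by
    have hac : a ∈ Subgroup.center (H ⧸ N) :=
      (Subgroup.zpowers_le.mpr hzc) ha
    rw [Subgroup.mem_center_iff.mp hac g, mul_inv_cancel_right]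
    exact ha⟩
  set M := (Subgroup.zpowers z).comap (QuotientGroup.mk' N) with hM
  have hNM : N ≤ M := by
    rw [hM]
    intro n hn
    rw [Subgroup.mem_comap, show QuotientGroup.mk' N n = 1 from (QuotientGroup.eq_one_iff n).mpr hn]
    exact one_mem _
  have hML : M ≤ L := by
    refine le_trans (Subgroup.comap_mono (Subgroup.zpowers_le.mpr hzL)) ?_
    rw [Subgroup.comap_map_eq_self]
    rw [QuotientGroup.ker_mk']; exact hNL.le
  have hMeq : M = L := by
    by_contra hne'
    have hMN := hmax ⟨inferInstance, hKN.trans hNM, lt_of_le_of_ne hML hne'⟩ hNM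
    have hz1 : z = 1 := by
      obtain ⟨y, rfl⟩ := QuotientGroup.mk'_surjective N z
      exact (QuotientGroup.eq_one_iff y).mpr (hMN (Subgroup.mem_zpowers _))
    rw [hz1, orderOf_one] at hzo
    exact hp.out.one_lt.ne hzo
  have hmap : L.map (QuotientGroup.mk' N) = Subgroup.zpowers z := by
    rw [← hMeq, hM, Subgroup.map_comap_eq_self_of_surjective (QuotientGroup.mk'_surjective N)]
  obtain ⟨A, _, δ, hA, x, hx, hδ⟩ := exists_hom_ne_one H hH N hQ hNL.le
    (by rw [← hL, hmap, Nat.card_zpowers, hzo])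
    (by rw [← hL, hmap]; exact Subgroup.zpowers_le.mpr hzc)
  exact hδ (hyp A hA δ hx)

/-- A homomorphism into a group of order `p` kills the Frattini subgroup. -/
lemma frattini_le_ker_of_card {P A : Type*} [Group P] [Group A] (hA : Nat.card A = p)
    (δ : P →* A) : frattini P ≤ δ.ker := by
  haveI : Finite A := Nat.finite_of_card_ne_zero (hA ▸ hp.out.ne_zero)
  by_cases h : δ.ker = ⊤
  · rw [h]; exact le_top
  · apply frattini_le_coatom
    refine ⟨h, fun M hM => ?_⟩
    have hd : δ.ker.index ∣ p := by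
      rw [Subgroup.index_ker, ← hA]; exact Subgroup.card_subgroup_dvd_card _
    have h1 : δ.ker.index = p :=
      ((Nat.dvd_prime hp.out).mp hd).resolve_left (fun h' => h (Subgroup.index_eq_one.mp h'))
    rw [← Subgroup.index_eq_one]
    rcases (Nat.dvd_prime hp.out).mp (h1 ▸ Subgroup.index_dvd_of_le hM.le) with h2 | h2
    · exact h2
    · haveI : δ.ker.FiniteIndex := ⟨by rw [h1]; exact hp.out.ne_zero⟩
      exact absurd (h1.trans h2.symm) (Subgroup.index_strictAnti hM).ne'

/-- A homomorphism into a group of order `p` kills the derived subgroup. -/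
lemma commutator_le_ker_of_card {P A : Type*} [Group P] [Group A] (hA : Nat.card A = p)
    (δ : P →* A) : commutator P ≤ δ.ker := by
  haveI : IsCyclic A := isCyclic_of_prime_card hA
  letI := IsCyclic.commGroup (α := A)
  exact Abelianization.commutator_subset_ker δ

/-- **Tate's theorem**: if `P ≤ H` and `P ∩ O^p(G)` lies in `Φ(P)H'O^p(H)` then
`P ∩ O^p(G) = P ∩ O^p(H)`. -/
theorem inf_pResidual_eq [Finite G] (P : Sylow p G) {H : Subgroup G} (hP : (P : Subgroup G) ≤ H)
    (hT : (P : Subgroup G) ⊓ Cfsg.pResidual p G ≤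
      (frattini P).map (P : Subgroup G).subtype ⊔ ⁅H, H⁆ ⊔ (Cfsg.pResidual p H).map H.subtype) :
    (P : Subgroup G) ⊓ Cfsg.pResidual p G =
      (P : Subgroup G) ⊓ (Cfsg.pResidual p H).map H.subtype := by
  have hH : ¬ p ∣ H.index := fun h => P.not_dvd_index (h.trans (Subgroup.index_dvd_of_le hP))
  have key : (Cfsg.pResidual p G).subgroupOf H = Cfsg.pResidual p H := by
    refine subgroupOf_pResidual_eq H hH fun A _ hA δ => ?_
    intro x hx
    -- write `x` as a product of an element of `P` and one of `O^p(H)`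
    have hx' : x ∈ (P.subtype hP : Subgroup H) ⊔ Cfsg.pResidual p H := by
      rw [sylow_sup_pResidual]; trivial
    obtain ⟨y, hy, k, hk, rfl⟩ := Subgroup.mem_sup_of_normal_right.mp hx'
    have hAp : IsPGroup p A := IsPGroup.of_card (n := 1) (by simpa using hA)
    have hk1 : δ k = 1 := MonoidHom.mem_ker.mp (pResidual_le_ker hAp δ hk)
    rw [MonoidHom.mem_ker, map_mul, hk1, mul_one]
    have hyT : (y : G) ∈ (P : Subgroup G) ⊓ Cfsg.pResidual p G := by
      refine ⟨hy, ?_⟩
      have hk' : (k : G) ∈ Cfsg.pResidual p G := pResidual_le_subgroupOf H hk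
      have hyk : (y : G) * (k : G) ∈ Cfsg.pResidual p G := hx
      exact (Subgroup.mul_mem_cancel_right _ hk').mp hyk
    have hle : (frattini P).map (P : Subgroup G).subtype ⊔ ⁅H, H⁆ ⊔
        (Cfsg.pResidual p H).map H.subtype ≤ δ.ker.map H.subtype := by
      refine sup_le (sup_le ?_ ?_) (Subgroup.map_mono (pResidual_le_ker hAp δ))
      · rintro _ ⟨a, ha, rfl⟩
        exact ⟨Subgroup.inclusion hP a,
          frattini_le_ker_of_card hA (δ.comp (Subgroup.inclusion hP)) ha, rfl⟩
      · rw [← Subgroup.map_subtype_commutator]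
        exact Subgroup.map_mono (commutator_le_ker_of_card hA δ)
    obtain ⟨y', hy', he⟩ := hle (hT hyT)
    rwa [Subtype.ext he] at hy'
  rw [← key, Subgroup.subgroupOf_map_subtype, ← inf_assoc, inf_eq_left.mpr (inf_le_left.trans hP)]

/-- Tate: control of fusion implies `P ∩ O^p(G) = P ∩ O^p(H)`. -/
theorem inf_pResidual_eq_of_controlsFusion [Finite G] (P : Sylow p G) {H : Subgroup G}
    (hP : (P : Subgroup G) ≤ H) (h : ControlsFusion H (P : Subgroup G)) :
    (P : Subgroup G) ⊓ Cfsg.pResidual p G =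
      (P : Subgroup G) ⊓ (Cfsg.pResidual p H).map H.subtype :=
  inf_pResidual_eq P hP (((inf_pResidual_le_focalSubgroup P).trans
    (focalSubgroup_le_commutator_of_controlsFusion hP h)).trans
      (le_trans le_sup_right le_sup_left))

/-- A Sylow subgroup that controls its own fusion has a normal complement. -/
theorem hasNormalPComplement_of_controlsFusion [Finite G] (P : Sylow p G)
    (h : ControlsFusion (P : Subgroup G) (P : Subgroup G)) : Cfsg.HasNormalPComplement p G := by
  rw [hasNormalPComplement_iff_inf_eq_bot P, inf_pResidual_eq_of_controlsFusion P le_rfl h]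
  have h1 : Cfsg.pResidual p (P : Subgroup G) = ⊥ := by
    refine le_bot_iff.mp (le_trans (pResidual_le_ker P.2 (MonoidHom.id _)) ?_)
    exact (MonoidHom.ker_eq_bot_iff _).mpr Function.injective_id |>.le
  rw [h1, Subgroup.map_bot, inf_bot_eq]

end Cfsg.Agent.Lib.Transfer
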