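import Cfsg.Agent.Lib.Transfer.Tate

/-!
Grün's theorem and small general transfer lemmas.
-/

set_option autoImplicit false

namespace Cfsg.Agent.Lib.Transfer

variable {G : Type*} [Group G]

lemma le_normalizer_of_le_centralizer {P Z : Subgroup G}
    (hZ : Z ≤ Subgroup.centralizer (P : Set G)) : P ≤ Subgroup.normalizer (Z : Set G) := by
  intro x hx
  rw [Subgroup.mem_normalizer_iff]
  intro y
  constructor
  · intro hy
    rwa [hZ hy x hx, mul_inv_cancel_right]
  · intro hy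
    have h1 : x * (x * y * x⁻¹) = (x * y * x⁻¹) * x := hZ hy x hx
    have h2 : x * y * x⁻¹ = y := by
      apply mul_left_cancel (a := x)
      rw [h1]; group
    rwa [h2] at hy

/-- A homomorphism from `H` to an abelian group kills the central elements of `G'` lying in `H`
whose image has order prime to `[G : H]`. -/
lemma hom_eq_one_of_mem_center_of_mem_commutator {H : Subgroup G} [H.FiniteIndex] {A : Type*}
    [CommGroup A] (φ : H →* A) {z : G} (hz : z ∈ Subgroup.center G) (hzH : z ∈ H)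
    (hzG : z ∈ commutator G) (hcop : Nat.Coprime (orderOf (φ ⟨z, hzH⟩)) H.index) :
    φ ⟨z, hzH⟩ = 1 := by
  let τ : G →* A := MonoidHom.transfer φ
  have hτ : τ z = 1 := Abelianization.commutator_subset_ker τ hzG
  have key : ∀ (k : ℕ) (g₀ : G), g₀⁻¹ * z ^ k * g₀ ∈ H → g₀⁻¹ * z ^ k * g₀ = z ^ k := by
    intro k g₀ _
    rw [mul_assoc, ← Subgroup.mem_center_iff.mp (pow_mem hz k) g₀, inv_mul_cancel_left]
  rw [show τ z = _ from MonoidHom.transfer_eq_pow φ z key] at hτ
  have e1 : (⟨z ^ H.index, MonoidHom.transfer_eq_pow_aux z key⟩ : H)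
      = (⟨z, hzH⟩ : H) ^ H.index := Subtype.ext (by simp)
  rw [e1, map_pow] at hτ
  exact orderOf_eq_one_iff.mp (hcop.eq_one_of_dvd (orderOf_dvd_of_pow_eq_one hτ))

open scoped IsMulCommutative in
/-- An abelian Hall subgroup meets `G' ∩ Z(G)` trivially. -/
lemma abelian_hall_inf_commutator_inf_center [Finite G] (H : Subgroup G) [IsMulCommutative H]
    (hHall : Nat.Coprime (Nat.card H) H.index) :
    H ⊓ commutator G ⊓ Subgroup.center G = ⊥ := by
  rw [eq_bot_iff]
  rintro z ⟨⟨hzH, hzG⟩, hz⟩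
  have h1 := hom_eq_one_of_mem_center_of_mem_commutator (MonoidHom.id H) hz hzH hzG
    (Nat.Coprime.coprime_dvd_left (orderOf_dvd_natCard _) hHall)
  rw [Subgroup.mem_bot]
  exact congrArg Subtype.val h1

variable {p : ℕ} [hp : Fact p.Prime]

lemma eq_of_weaklyClosed_of_le_smul {Z : Subgroup G} {P : Sylow p G}
    (hW : Cfsg.IsWeaklyClosed Z (P : Subgroup G)) {a k : G}
    (ha : Z.map (MulAut.conj a).toMonoidHom ≤ ((k • P : Sylow p G) : Subgroup G)) :
    Z.map (MulAut.conj (k⁻¹ * a)).toMonoidHom = Z := by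
  refine hW.2 _ ?_
  rintro _ ⟨z, hz, rfl⟩
  have h1 : (MulAut.conj a).toMonoidHom z ∈ ((k • P : Sylow p G) : Subgroup G) :=
    ha ⟨z, hz, rfl⟩
  rw [Sylow.coe_subgroup_smul] at h1
  obtain ⟨y, hy, hye⟩ := h1
  have : (MulAut.conj (k⁻¹ * a)).toMonoidHom z = y := by
    simp only [MulEquiv.coe_toMonoidHom, MulAut.conj_apply] at hye ⊢
    change k * y * k⁻¹ = _ at hye
    calc k⁻¹ * a * z * (k⁻¹ * a)⁻¹ = k⁻¹ * (a * z * a⁻¹) * k := by group
      _ = y := by rw [← hye]; group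
  rw [this]; exact hy

/-- **Grün**: the normaliser of a weakly closed subgroup of `Z(P)` controls fusion in `P`. -/
theorem controlsFusion_of_weaklyClosed [Finite G] (P : Sylow p G) (Z : Subgroup G)
    (hZ : Z ≤ Subgroup.centralizer ((P : Subgroup G) : Set G))
    (hW : Cfsg.IsWeaklyClosed Z (P : Subgroup G)) :
    ControlsFusion (Subgroup.normalizer (Z : Set G)) (P : Subgroup G) := by
  intro x hx g hg
  set C := Subgroup.centralizer ({g * x * g⁻¹} : Set G) with hC
  have hZC : Z ≤ C := fun z hz => by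
    rw [hC, Subgroup.mem_centralizer_singleton_iff]
    exact (hZ hz _ hg).symm
  have hZgC : Z.map (MulAut.conj g).toMonoidHom ≤ C := by
    rintro _ ⟨z, hz, rfl⟩
    rw [hC, Subgroup.mem_centralizer_singleton_iff]
    simp only [MulEquiv.coe_toMonoidHom, MulAut.conj_apply]
    have h0 : x * z = z * x := hZ hz x hx
    calc g * z * g⁻¹ * (g * x * g⁻¹) = g * (z * x) * g⁻¹ := by group
      _ = g * (x * z) * g⁻¹ := by rw [h0]
      _ = g * x * g⁻¹ * (g * z * g⁻¹) := by group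
  have hZp : IsPGroup p Z := P.2.to_le hW.1
  obtain ⟨S, hS⟩ := (hZp.of_equiv (Subgroup.subgroupOfEquivOfLe hZC).symm).exists_le_sylow
  obtain ⟨S', hS'⟩ := ((hZp.map (MulAut.conj g).toMonoidHom).of_equiv
    (Subgroup.subgroupOfEquivOfLe hZgC).symm).exists_le_sylow
  obtain ⟨c, hc⟩ := MulAction.exists_smul_eq C S' S
  obtain ⟨R, hR⟩ := (S.2.map C.subtype).exists_le_sylow
  obtain ⟨k, hk⟩ := MulAction.exists_smul_eq G P R
  subst hk
  have e1 : Z.map (MulAut.conj (1 : G)).toMonoidHom ≤ ((k • P : Sylow p G) : Subgroup G) := by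
    rintro _ ⟨z, hz, rfl⟩
    simp only [MulEquiv.coe_toMonoidHom, map_one, MulAut.one_apply]
    exact hR ⟨⟨z, hZC hz⟩, hS hz, rfl⟩
  have e2 : Z.map (MulAut.conj ((c : G) * g)).toMonoidHom ≤ ((k • P : Sylow p G) : Subgroup G) := by
    rintro _ ⟨z, hz, rfl⟩
    simp only [MulEquiv.coe_toMonoidHom, MulAut.conj_apply]
    have hy : g * z * g⁻¹ ∈ Z.map (MulAut.conj g).toMonoidHom := ⟨z, hz, rfl⟩
    have h1 : c * ⟨_, hZgC hy⟩ * c⁻¹ ∈ (S : Subgroup C) := by
      rw [← hc, Sylow.coe_subgroup_smul]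
      exact Subgroup.smul_mem_pointwise_smul (⟨_, hZgC hy⟩ : C) (MulAut.conj c) _ (hS' hy)
    have h2 := hR ⟨_, h1, rfl⟩
    simpa [mul_assoc] using h2
  have k1 := eq_of_weaklyClosed_of_le_smul hW e1
  have k2 := eq_of_weaklyClosed_of_le_smul hW e2
  have k1' : k⁻¹ ∈ Subgroup.normalizer (Z : Set G) :=
    Subgroup.mem_normalizer_iff_map_conj_eq.mpr (by simpa using k1)
  have k2' : k⁻¹ * ((c : G) * g) ∈ Subgroup.normalizer (Z : Set G) :=
    Subgroup.mem_normalizer_iff_map_conj_eq.mpr k2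
  have hn : (c : G) * g ∈ Subgroup.normalizer (Z : Set G) := by
    simpa [mul_assoc] using mul_mem (inv_mem k1') k2'
  refine ⟨(c : G) * g, hn, ?_⟩
  have hcc := Subgroup.mem_centralizer_singleton_iff.mp c.2
  calc (c : G) * g * x * ((c : G) * g)⁻¹ = (c : G) * (g * x * g⁻¹) * (c : G)⁻¹ := by group
    _ = g * x * g⁻¹ := by rw [hcc, mul_inv_cancel_right]

end Cfsg.Agent.Lib.Transfer
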