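import Mathlib

/-!
Coprime action on an abelian subgroup: `[V, A] ⊓ C(A) = 1`; abelian Hall subgroups.
-/

set_option autoImplicit false
set_option linter.style.haveILetI false

namespace Cfsg.Agent.Lib.Transfer

open scoped commutatorElement

variable {G : Type*} [Group G] [Finite G]

/-- A coprime action on an abelian subgroup has no fixed points in the commutator. -/
theorem commutator_inf_centralizer_eq_bot {V A : Subgroup G} (hV : IsMulCommutative V)
    (hA : A ≤ Subgroup.normalizer (V : Set G)) (hcop : (Nat.card A).Coprime (Nat.card V)) :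
    ⁅V, A⁆ ⊓ Subgroup.centralizer (A : Set G) = ⊥ := by
  classical
  haveI := Fintype.ofFinite A
  letI : CommGroup V :=
    { (inferInstance : Group V) with mul_comm := fun a b => hV.is_comm.comm a b }
  let c : A → V →* V := fun a =>
    { toFun := fun v => ⟨(a : G) * v * (a : G)⁻¹, (Subgroup.mem_normalizer_iff.mp (hA a.2) v).mp v.2⟩
      map_one' := Subtype.ext (by simp)
      map_mul' := fun x y => Subtype.ext (by simp [mul_assoc]) }
  have hcmul : ∀ a b : A, ∀ v : V, c a (c b v) = c (a * b) v := fun a b v =>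
    Subtype.ext (by simp [c, mul_assoc])
  let ρ : V →* V := ∏ a : A, c a
  have hρ : ∀ b : A, ∀ v : V, ρ (c b v) = ρ v := by
    intro b v
    simp only [ρ, MonoidHom.finsetProd_apply, hcmul]
    exact Fintype.prod_equiv (Equiv.mulRight b) _ _ fun a => rfl
  have hle : ⁅V, A⁆ ≤ ρ.ker.map V.subtype := by
    rw [Subgroup.commutator_le]
    intro v hv a ha
    refine ⟨⟨v, hv⟩ * c ⟨a, ha⟩ ⟨v, hv⟩⁻¹, ?_, ?_⟩
    · rw [SetLike.mem_coe, MonoidHom.mem_ker, map_mul, hρ, map_inv, mul_inv_cancel]
    · show v * (a * v⁻¹ * a⁻¹) = _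
      rw [commutatorElement_def]; group
  rw [eq_bot_iff]
  intro x hx
  obtain ⟨v, hv, rfl⟩ := hle hx.1
  rw [SetLike.mem_coe, MonoidHom.mem_ker] at hv
  have hfix : ∀ a : A, c a v = v := fun a => Subtype.ext (by
    show (a : G) * v * (a : G)⁻¹ = v
    have h1 := Subgroup.mem_centralizer_iff.mp hx.2 a a.2
    rw [Subgroup.coe_subtype] at h1
    rw [h1, mul_inv_cancel_right])
  simp only [ρ, MonoidHom.finsetProd_apply, hfix, Finset.prod_const, Finset.card_univ] at hv
  have : v = 1 := (powCoprime (hcop.symm)).injective (by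
    simpa [powCoprime, Nat.card_eq_fintype_card] using hv)
  rw [Subgroup.mem_bot, this, map_one]

end Cfsg.Agent.Lib.Transfer
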