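import Cfsg.Agent.Lib.Transfer.Gruen

/-!
The transfer into `H/H*` when `[G : H]` is prime to `|H/H'|`; abelian normal Hall subgroups.
-/

set_option autoImplicit false

namespace Cfsg.Agent.Lib.Transfer

variable {G : Type*} [Group G]

lemma focal_transfer_coprime [Finite G] (H : Subgroup G)
    (h : Nat.Coprime H.index (⁅H, H⁆.relIndex H)) :
    Subgroup.focalSubgroup H = commutator G ⊓ H ∧
      ∃ N : Subgroup G, N.Normal ∧ N ⊓ H = commutator G ⊓ H ∧ N ⊔ H = ⊤ := by
  set τ := Subgroup.transferFocal H with hτ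
  have hd : Nat.card (H ⧸ H.focalSubgroupOf) ∣ ⁅H, H⁆.relIndex H := by
    rw [← Subgroup.index_eq_card, Subgroup.focalSubgroupOf_def]
    exact Subgroup.relIndex_dvd_of_le_left H H.commutator_le_focalSubgroup
  have hcop : (Nat.card (H ⧸ H.focalSubgroupOf)).Coprime H.index :=
    (Nat.Coprime.coprime_dvd_right hd h).symm
  have hker : τ.ker ⊓ H = Subgroup.focalSubgroup H := by
    apply le_antisymm
    · rintro x ⟨hx, hxH⟩
      have h1 : τ x = _ := Subgroup.transferFocal_eq_pow H ⟨x, hxH⟩
      have hx1 : τ x = 1 := hx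
      rw [hx1] at h1
      have h2 : ((⟨x, hxH⟩ : H) : H ⧸ H.focalSubgroupOf) = 1 :=
        (powCoprime hcop).injective (h1.symm.trans (one_pow _).symm)
      exact (QuotientGroup.eq_one_iff (N := H.focalSubgroupOf) (⟨x, hxH⟩ : H)).mp h2
    · refine le_inf ?_ H.focalSubgroup_le
      intro x hx
      have hxH := H.focalSubgroup_le hx
      rw [MonoidHom.mem_ker, show τ x = _ from Subgroup.transferFocal_eq_pow H ⟨x, hxH⟩,
        (QuotientGroup.eq_one_iff (N := H.focalSubgroupOf) ⟨x, hxH⟩).mpr hx, one_pow]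
  have hfoc : Subgroup.focalSubgroup H = commutator G ⊓ H := by
    refine le_antisymm (le_inf H.focalSubgroup_le_commutator H.focalSubgroup_le) ?_
    rw [← hker]
    refine inf_le_inf_right _ ?_
    open scoped IsMulCommutative in exact Abelianization.commutator_subset_ker τ
  refine ⟨hfoc, τ.ker, inferInstance, hker.trans hfoc, eq_top_iff.mpr fun g _ => ?_⟩
  obtain ⟨y, hy⟩ := (powCoprime hcop).surjective (τ g)
  obtain ⟨x, rfl⟩ := QuotientGroup.mk'_surjective _ y
  have hx : τ (x : G) = τ g := (Subgroup.transferFocal_eq_pow H x).trans hy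
  have h2 : g * (x : G)⁻¹ ∈ τ.ker := by
    rw [MonoidHom.mem_ker, map_mul, map_inv, hx, mul_inv_cancel]
  simpa using mul_mem (Subgroup.mem_sup_left (T := H) h2) (Subgroup.mem_sup_right x.2)

open scoped IsMulCommutative in
/-- In an abelian normal subgroup `A` every element raised to the power `[G : A]` is a central
element times an element of `[A, G]`. -/
lemma pow_index_mem_sup [Finite G] (A : Subgroup G) [A.Normal] [IsMulCommutative A] {a : G}
    (ha : a ∈ A) : a ^ A.index ∈ ⁅A, (⊤ : Subgroup G)⁆ ⊔ (Subgroup.center G ⊓ A) := by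
  classical
  letI := Fintype.ofFinite (G ⧸ A)
  let f : G → A := fun g => ⟨g * a * g⁻¹, ‹A.Normal›.conj_mem a ha g⟩
  have hf : ∀ g : G, ∀ b ∈ A, f (g * b) = f g := by
    intro g b hb
    apply Subtype.ext
    show g * b * a * (g * b)⁻¹ = g * a * g⁻¹
    have h0 : b * a = a * b :=
      congrArg Subtype.val (mul_comm' (⟨b, hb⟩ : A) ⟨a, ha⟩)
    rw [mul_assoc g b a, h0]; group
  let n : A := ∏ q : G ⧸ A, f q.out
  have hn : (n : G) ∈ Subgroup.center G := by
    rw [Subgroup.mem_center_iff]
    intro g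
    let c : A →* A :=
      { toFun := fun y => ⟨g * y * g⁻¹, ‹A.Normal›.conj_mem _ y.2 g⟩
        map_one' := Subtype.ext (by simp)
        map_mul' := fun y z => Subtype.ext (by simp [mul_assoc]) }
    have h1 : c n = n := by
      show c (∏ q : G ⧸ A, f q.out) = ∏ q : G ⧸ A, f q.out
      rw [map_prod]
      refine Fintype.prod_equiv (MulAction.toPerm g) _ _ fun q => ?_
      have h2 : ((g • q : G ⧸ A).out)⁻¹ * (g * q.out) ∈ A := by
        rw [← QuotientGroup.eq, QuotientGroup.out_eq']
        conv_lhs => rw [← QuotientGroup.out_eq' q]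
        rfl
      calc c (f q.out) = f (g * q.out) := Subtype.ext (by
              show g * (q.out * a * q.out⁻¹) * g⁻¹ = g * q.out * a * (g * q.out)⁻¹
              group)
        _ = f ((g • q : G ⧸ A).out * ((g • q : G ⧸ A).out⁻¹ * (g * q.out))) := by
              rw [mul_inv_cancel_left]
        _ = f (g • q : G ⧸ A).out := hf _ _ h2
    exact mul_inv_eq_iff_eq_mul.mp (congrArg Subtype.val h1)
  have hmod : (⟨a, ha⟩ : A) ^ A.index * n⁻¹ ∈ ⁅A, (⊤ : Subgroup G)⁆.subgroupOf A := by
    rw [Subgroup.index_eq_card, Nat.card_eq_fintype_card, ← Finset.card_univ,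
      ← Finset.prod_const, ← Finset.prod_inv_distrib, ← Finset.prod_mul_distrib]
    refine Subgroup.prod_mem _ fun q _ => ?_
    show a * (q.out * a * q.out⁻¹)⁻¹ ∈ ⁅A, (⊤ : Subgroup G)⁆
    have := Subgroup.commutator_mem_commutator ha (Subgroup.mem_top q.out)
    open scoped commutatorElement in simpa [commutatorElement_def, mul_assoc] using this
  have h3 : a ^ A.index = (a ^ A.index * (n : G)⁻¹) * n := by group
  rw [h3]
  exact Subgroup.mul_mem_sup hmod ⟨hn, n.2⟩

/-- An abelian normal Hall subgroup is `(G' ∩ A) × (Z(G) ∩ A)`. -/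
lemma commutator_inf_sup_center_inf [Finite G] (A : Subgroup G) [A.Normal] [IsMulCommutative A]
    (hHall : Nat.Coprime (Nat.card A) A.index) :
    ⁅A, (⊤ : Subgroup G)⁆ = commutator G ⊓ A ∧
      (commutator G ⊓ A) ⊓ (Subgroup.center G ⊓ A) = ⊥ ∧
        (commutator G ⊓ A) ⊔ (Subgroup.center G ⊓ A) = A := by
  have h1 : ⁅A, (⊤ : Subgroup G)⁆ = commutator G ⊓ A := by
    refine le_antisymm (le_inf ?_ (Subgroup.commutator_le_left A ⊤)) ?_
    · rw [commutator_def]; exact Subgroup.commutator_mono le_top le_rfl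
    · have hcop : Nat.Coprime A.index (⁅A, A⁆.relIndex A) :=
        (Nat.Coprime.coprime_dvd_left (Subgroup.relIndex_dvd_card _ _) hHall).symm
      rw [← (focal_transfer_coprime A hcop).1, focalSubgroup_le_iff]
      intro y hy g _
      have := Subgroup.commutator_mem_commutator (inv_mem hy) (Subgroup.mem_top g)
      open scoped commutatorElement in simpa [commutatorElement_def, mul_assoc] using this
  refine ⟨h1, ?_, le_antisymm (sup_le inf_le_right inf_le_right) fun a ha => ?_⟩
  · rw [eq_bot_iff, ← abelian_hall_inf_commutator_inf_center A hHall]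
    exact fun x hx => ⟨⟨hx.1.2, hx.1.1⟩, hx.2.1⟩
  · rw [← h1]
    obtain ⟨y, hy⟩ := (powCoprime (G := A) (n := A.index) hHall).surjective ⟨a, ha⟩
    have h2 : (y : G) ^ A.index = a := congrArg Subtype.val hy
    rw [← h2]
    exact pow_index_mem_sup A y.2

end Cfsg.Agent.Lib.Transfer
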