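import Cfsg.Agent.Lib.Transfer.ExtraspecialTransfer
import Cfsg.Agent.Lib.Coprime.Basic

namespace Cfsg.Agent.Lib.Transfer.ExtraspecialFusion

open scoped commutatorElement
open Cfsg.Agent.Lib.Transfer.ExtraspecialTransfer

variable {G : Type*} [Group G] [Finite G] {z : G} {H E : Subgroup G}

/-- `|C_E(D)| |D| ≥ 2|E|`. -/
theorem card_centralizer_mul_card (S : Setting z H E) (T : Subgroup G) (hTE : T ≤ E) (hzT : z ∈ T) :
    2 * Nat.card E ≤ Nat.card ↥(E ⊓ Subgroup.centralizer (T : Set G)) * Nat.card T := by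
  classical
  let P : Subgroup G → Prop := fun D => z ∈ D ∧ D ≤ T ∧
    2 * Nat.card E ≤ Nat.card ↥(E ⊓ Subgroup.centralizer (D : Set G)) * Nat.card D
  have hP0 : P (Subgroup.zpowers z) := by
    refine ⟨Subgroup.mem_zpowers z, Subgroup.zpowers_le.mpr hzT, ?_⟩
    have hcen : E ⊓ Subgroup.centralizer ((Subgroup.zpowers z : Subgroup G) : Set G) = E := by
      refine inf_eq_left.mpr fun e he => Subgroup.mem_centralizer_iff.mpr ?_
      rintro _ ⟨n, rfl⟩
      exact ((show Commute e z from z_comm S he).zpow_right n).symm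
    rw [hcen, Nat.card_zpowers, orderOf_eq_prime (p := 2) (by rw [pow_two]; exact S.hzz) S.hz1,
      mul_comm]
  obtain ⟨D, -, hD⟩ := Finite.exists_le_maximal hP0
  obtain ⟨hzD, hDT, hDc⟩ := hD.1
  suffices T ≤ D by rw [le_antisymm hDT this] at hDc; exact hDc
  intro d hd
  by_contra hdD
  set D' := D ⊔ Subgroup.zpowers d with hD'
  have hdD' : d ∈ D' := Subgroup.mem_sup_right (Subgroup.mem_zpowers d)
  have hcardD : 2 * Nat.card D ≤ Nat.card D' := by
    let g : Bool × D → D' := fun p => if p.1 then ⟨d * p.2, mul_mem hdD' (Subgroup.mem_sup_left p.2.2)⟩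
      else ⟨p.2, Subgroup.mem_sup_left p.2.2⟩
    have hg : Function.Injective g := by
      rintro ⟨a, u⟩ ⟨b, v⟩ h
      cases a <;> cases b <;> simp only [g, Bool.false_eq_true, if_false, if_true] at h <;>
        have h' := congrArg Subtype.val h <;> simp only at h'
      · exact Prod.ext rfl (Subtype.ext h')
      · exfalso; apply hdD
        have : d = (u : G) * (v : G)⁻¹ := by rw [h']; group
        rw [this]; exact mul_mem u.2 (inv_mem v.2)
      · exfalso; apply hdD
        have : d = (v : G) * (u : G)⁻¹ := by rw [← h']; group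
        rw [this]; exact mul_mem v.2 (inv_mem u.2)
      · exact Prod.ext rfl (Subtype.ext (mul_left_cancel h'))
    have := Nat.card_le_card_of_injective g hg
    rwa [Nat.card_prod, Nat.card_eq_fintype_card, Fintype.card_bool] at this
  set C := E ⊓ Subgroup.centralizer (D : Set G) with hC
  set C' := E ⊓ Subgroup.centralizer (D' : Set G) with hC'
  have hmem : ∀ c ∈ C, c * d = d * c → c ∈ C' := by
    intro c hc hcd
    refine ⟨hc.1, ?_⟩
    have hle : D' ≤ Subgroup.centralizer ({c} : Set G) := sup_le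
      (fun y hy => Subgroup.mem_centralizer_singleton_iff.mpr (Subgroup.mem_centralizer_iff.mp hc.2 y hy))
      (Subgroup.zpowers_le.mpr (Subgroup.mem_centralizer_singleton_iff.mpr hcd.symm))
    exact Subgroup.mem_centralizer_iff.mpr fun y hy => Subgroup.mem_centralizer_singleton_iff.mp (hle hy)
  have hcardC : Nat.card C ≤ 2 * Nat.card C' := by
    by_cases hall : ∀ c ∈ C, c * d = d * c
    · have := Subgroup.card_le_of_le (show C ≤ C' from fun c hc => hmem c hc (hall c hc))
      omega
    push Not at hall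
    obtain ⟨c₀, hc₀, hne₀⟩ := hall
    have key : ∀ c ∈ C, ¬ c * d = d * c → (c₀⁻¹ * c) * d = d * (c₀⁻¹ * c) := by
      intro c hc hne
      have h1 : ⁅c, d⁆ = z := (S.hcomm c hc.1 d (hTE hd)).resolve_left
        fun h => hne (commutatorElement_eq_one_iff_mul_comm.mp h)
      have h2 : ⁅c₀, d⁆ = z := (S.hcomm c₀ hc₀.1 d (hTE hd)).resolve_left
        fun h => hne₀ (commutatorElement_eq_one_iff_mul_comm.mp h)
      have a1 : c * d = z * (d * c) := by rw [← h1]; exact conj_eq_mul_comm c d
      have a2 : c₀ * d = z * (d * c₀) := by rw [← h2]; exact conj_eq_mul_comm c₀ d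
      calc c₀⁻¹ * c * d = c₀⁻¹ * (z * (d * c₀)) * c₀⁻¹ * c := by rw [mul_assoc c₀⁻¹ c d, a1]; group
        _ = c₀⁻¹ * (c₀ * d) * c₀⁻¹ * c := by rw [a2]
        _ = d * (c₀⁻¹ * c) := by group
    let g : C → C' × Bool := fun c => if h : (c : G) * d = d * c then (⟨c, hmem c c.2 h⟩, false)
      else (⟨c₀⁻¹ * c, hmem _ (mul_mem (inv_mem hc₀) c.2) (key c c.2 h)⟩, true)
    have hg : Function.Injective g := by
      intro a b h
      by_cases ha : (a : G) * d = d * a <;> by_cases hb : (b : G) * d = d * b <;>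
        simp only [g, dif_pos, dif_neg, ha, hb, not_false_eq_true] at h
      · exact Subtype.ext (congrArg (fun p : C' × Bool => (p.1 : G)) h)
      · exact absurd (congrArg Prod.snd h) (by simp)
      · exact absurd (congrArg Prod.snd h) (by simp)
      · exact Subtype.ext (mul_left_cancel (congrArg (fun p : C' × Bool => (p.1 : G)) h))
    have := Nat.card_le_card_of_injective g hg
    rw [Nat.card_prod, Nat.card_eq_fintype_card (α := Bool), Fintype.card_bool] at this
    omega
  refine hdD (hD.2 (y := D') ⟨Subgroup.mem_sup_left hzD,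
    sup_le hDT (Subgroup.zpowers_le.mpr hd), ?_⟩ le_sup_left hdD')
  calc 2 * Nat.card E ≤ Nat.card C * Nat.card D := hDc
    _ ≤ (2 * Nat.card C') * Nat.card D := Nat.mul_le_mul_right _ hcardC
    _ = Nat.card C' * (2 * Nat.card D) := by ring
    _ ≤ Nat.card C' * Nat.card D' := Nat.mul_le_mul_left _ hcardD

/-- If the stabilizer has index two in `E`, the conjugate of `z` lies in `E`. -/
theorem mem_of_index_two (S : Setting z H E) {i : G ⧸ H} (hzi : z • i = i)
    {e : G} (heE : e ∈ E) (he : e • i ≠ i)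
    (hidx : ∀ e' ∈ E, e' • i = i ∨ (e⁻¹ * e') • i = i) : i.out * z * i.out⁻¹ ∈ E := by
  classical
  set o := i.out with ho
  set w := o * z * o⁻¹ with hw
  by_contra hwE
  have hwz : w * z = z * w := ((fix_iff_comm S z i).mp hzi).symm
  have hwH : w ∈ H := (S.hH w).mpr hwz
  have hww : w * w = 1 := by
    rw [hw, show o * z * o⁻¹ * (o * z * o⁻¹) = o * (z * z) * o⁻¹ by group, S.hzz]; group
  have hwinv : w⁻¹ = w := inv_eq_of_mul_eq_one_right hww
  have hwfix : ∀ s ∈ E, s • i = i → w * s = s * w := fun s _ hs => ((fix_iff_comm S s i).mp hs).symm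
  set c := e⁻¹ * (w * e * w⁻¹) with hc
  have hcE : c ∈ E := mul_mem (inv_mem heE) (S.hconj w hwH e heE)
  have hwe : w * e * w⁻¹ = e * c := by rw [hc]; group
  have hcs : ∀ s ∈ E, s • i = i → c * s = s * c := by
    intro s hsE hs
    have h2 := hwfix s hsE hs
    have hd : ⁅e * c, s⁆ = ⁅e, s⁆ := by
      rw [← hwe]
      have hs' : w * s * w⁻¹ = s := by rw [h2, mul_assoc, mul_inv_cancel, mul_one]
      have hd' : w * ⁅e, s⁆ * w⁻¹ = ⁅e, s⁆ := by
        rcases S.hcomm e heE s hsE with hh | hh
        · rw [hh]; group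
        · rw [hh, hwz, mul_assoc, mul_inv_cancel, mul_one]
      calc ⁅w * e * w⁻¹, s⁆ = ⁅w * e * w⁻¹, w * s * w⁻¹⁆ := by rw [hs']
        _ = w * ⁅e, s⁆ * w⁻¹ := by rw [commutatorElement_def, commutatorElement_def]; group
        _ = ⁅e, s⁆ := hd'
    have h3 : e * ⁅c, s⁆ * e⁻¹ * ⁅e, s⁆ = ⁅e, s⁆ := by
      conv_rhs => rw [← hd]
      rw [commutatorElement_def, commutatorElement_def, commutatorElement_def]; group
    have h4 : ⁅c, s⁆ = 1 := by
      have h5 := mul_eq_right.mp h3
      calc ⁅c, s⁆ = e⁻¹ * (e * ⁅c, s⁆ * e⁻¹) * e := by group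
        _ = 1 := by rw [h5]; group
    exact commutatorElement_eq_one_iff_mul_comm.mp h4
  have hall : ∀ x ∈ E, ∀ d : G, (∀ s ∈ E, s • i = i → d * s = s * d) → d * e = e * d →
      d * x = x * d := by
    intro x hx d hd hde
    rcases hidx x hx with h2 | h2
    · exact hd x hx h2
    · have h3 := hd _ (mul_mem (inv_mem heE) hx) h2
      calc d * x = (d * e) * (e⁻¹ * x) := by group
        _ = e * (d * (e⁻¹ * x)) := by rw [hde]; group
        _ = x * d := by rw [h3]; group
  have hcfix : c • i = i := by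
    rcases hidx c hcE with h2 | h2
    · exact h2
    exfalso
    apply he
    rw [fix_iff_comm S]
    have h3 := hwfix (e⁻¹ * c) (mul_mem (inv_mem heE) hcE) h2
    have hee : w * (e * e) = (e * e) * w := by
      rcases S.hsq e heE with hh | hh
      · rw [hh]; group
      · rw [hh, hwz]
    have h4 : w * (w * e * w⁻¹) = (w * e * w⁻¹) * w := by
      rw [hwe, show e * c = (e * e) * (e⁻¹ * c) by group]
      calc w * (e * e * (e⁻¹ * c)) = (w * (e * e)) * (e⁻¹ * c) := by group
        _ = (e * e) * (w * (e⁻¹ * c)) := by rw [hee]; group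
        _ = e * e * (e⁻¹ * c) * w := by rw [h3]; group
    calc e * w = w⁻¹ * ((w * e * w⁻¹) * w) * w := by group
      _ = w⁻¹ * (w * (w * e * w⁻¹)) * w := by rw [h4]
      _ = w * e := by group
  have hwc := hwfix c hcE hcfix
  have hcc : c * c = 1 := by
    have h2 : e = e * (c * c) := by
      calc e = w * (w * e * w⁻¹) * w⁻¹ := by
            rw [hwinv, show w * (w * e * w) * w = (w * w) * e * (w * w) by group, hww]; group
        _ = w * (e * c) * w⁻¹ := by rw [hwe]
        _ = (w * e * w⁻¹) * (w * c * w⁻¹) := by group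
        _ = e * c * c := by rw [hwc, hwe]; group
        _ = e * (c * c) := mul_assoc _ _ _
    exact mul_eq_left.mp h2.symm
  have hce : c * e = e * c := by
    have h2 : (e * c) * (e * c) = e * e := by
      rw [← hwe]
      rcases S.hsq e heE with hh | hh
      · rw [show w * e * w⁻¹ * (w * e * w⁻¹) = w * (e * e) * w⁻¹ by group, hh]; group
      · rw [show w * e * w⁻¹ * (w * e * w⁻¹) = w * (e * e) * w⁻¹ by group, hh, hwz]; group
    have h3 : c * e * c = e := mul_left_cancel (a := e) (by rw [← h2]; group)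
    calc c * e = c * e * (c * c) := by rw [hcc, mul_one]
      _ = (c * e * c) * c := by group
      _ = e * c := by rw [h3]
  have hcz : c = z := by
    rcases S.hZ c hcE (fun x hx => hall x hx c hcs hce) with h2 | h2
    · exfalso
      apply he
      rw [fix_iff_comm S]
      have h3 : w * e * w⁻¹ = e := by rw [hwe, h2, mul_one]
      calc e * w = (w * e * w⁻¹) * w := by rw [h3]
        _ = w * e := by group
    · exact h2
  -- an element of `E` inducing the same automorphism
  let St : Subgroup G := E ⊓ MulAction.stabilizer G i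
  have hStE : St ≤ E := inf_le_left
  have hzSt : z ∈ St := ⟨S.hzE, hzi⟩
  have hcard := card_centralizer_mul_card S St hStE hzSt
  have hlt : Nat.card St < Nat.card E := by
    apply lt_of_le_of_ne (Subgroup.card_le_of_le hStE)
    intro h
    have := Subgroup.eq_of_le_of_card_ge hStE h.ge
    exact he (this.ge heE).2
  obtain ⟨a, ha, hanot⟩ : ∃ a ∈ E ⊓ Subgroup.centralizer (St : Set G), a ∉ ({1, z} : Set G) := by
    by_contra hno
    push Not at hno
    let g : ↥(E ⊓ Subgroup.centralizer (St : Set G)) → Bool := fun u => decide ((u : G) = 1)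
    have hg : Function.Injective g := by
      intro u v h
      apply Subtype.ext
      rcases hno u u.2 with h1 | h1 <;> rcases hno v v.2 with h2 | h2 <;>
        simp only [g, decide_eq_decide] at h
      · rw [h1, h2]
      · exact absurd (h.mp h1) (by rw [Set.mem_singleton_iff.mp h2]; exact S.hz1)
      · exact absurd (h.mpr h2) (by rw [Set.mem_singleton_iff.mp h1]; exact S.hz1)
      · rw [Set.mem_singleton_iff.mp h1, Set.mem_singleton_iff.mp h2]
    have hle := Nat.card_le_card_of_injective g hg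
    rw [Nat.card_eq_fintype_card (α := Bool), Fintype.card_bool] at hle
    have := Nat.mul_le_mul_right (Nat.card St) hle
    omega
  have has : ∀ s ∈ E, s • i = i → a * s = s * a := fun s hs hsf =>
    (Subgroup.mem_centralizer_iff.mp ha.2 s ⟨hs, hsf⟩).symm
  have hae : ⁅e, a⁆ = z := by
    refine (S.hcomm e heE a ha.1).resolve_left fun h2 => hanot ?_
    exact S.hZ a ha.1 fun x hx => hall x hx a has (commutatorElement_eq_one_iff_mul_comm.mp h2).symm
  have hd1 : ∀ s ∈ E, s • i = i → (a⁻¹ * w) * s = s * (a⁻¹ * w) := by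
    intro s hs hsf
    have h2 := hwfix s hs hsf
    have h3 := has s hs hsf
    calc a⁻¹ * w * s = a⁻¹ * (w * s) := by group
      _ = a⁻¹ * s * w := by rw [h2]; group
      _ = a⁻¹ * (s * a) * a⁻¹ * w := by group
      _ = a⁻¹ * (a * s) * a⁻¹ * w := by rw [h3]
      _ = s * (a⁻¹ * w) := by group
  have hd2 : (a⁻¹ * w) * e = e * (a⁻¹ * w) := by
    have h2 : w * e = e * z * w := by rw [← hcz, ← hwe]; group
    have h4 : e * a = z * (a * e) := by rw [← hae]; exact conj_eq_mul_comm e a
    have haz := z_comm S ha.1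
    have hez := z_comm S heE
    have h3 : e * z * a = a * e := by
      calc e * z * a = e * (a * z) := by rw [mul_assoc, haz]
        _ = z * (a * e) * z := by rw [← mul_assoc, h4]
        _ = z * (a * e * z) := by group
        _ = z * (z * (a * e)) := by rw [mul_assoc a e z, hez, ← mul_assoc a z e, haz]; group
        _ = a * e := by rw [← mul_assoc, S.hzz, one_mul]
    calc a⁻¹ * w * e = a⁻¹ * (w * e) := by group
      _ = a⁻¹ * (e * z * w) := by rw [h2]
      _ = a⁻¹ * (e * z * a) * a⁻¹ * w := by group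
      _ = e * (a⁻¹ * w) := by rw [h3]; group
  have hdE := S.hcent (a⁻¹ * w) fun x hx => hall x hx _ hd1 hd2
  apply hwE
  have := mul_mem ha.1 hdE
  rwa [mul_inv_cancel_left] at this

/-- Orbit of a subgroup as a finset. -/
noncomputable def orbSet [Fintype (G ⧸ H)] (M : Subgroup G) (b : G ⧸ H) : Finset (G ⧸ H) :=
  haveI := Classical.decPred fun i : G ⧸ H => ∃ g ∈ M, g • b = i
  Finset.univ.filter (fun i => ∃ g ∈ M, g • b = i)

omit [Finite G] in
theorem mem_orbSet [Fintype (G ⧸ H)] {M : Subgroup G} {b i : G ⧸ H} :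
    i ∈ orbSet M b ↔ ∃ g ∈ M, g • b = i := by
  simp [orbSet]

/-- Fiber sum. -/
noncomputable def fib [Fintype (G ⧸ H)] (θ : G → ZMod 2) (s : G ⧸ H → G) (M : Subgroup G)
    (b : G ⧸ H) (y : G) : ZMod 2 :=
  ∑ i ∈ orbSet M b, coc θ s y i

section Step

variable [Fintype (G ⧸ H)] {θ : G → ZMod 2} {s : G ⧸ H → G} {X : Subgroup G} {b : G ⧸ H}

omit [Finite G] in
theorem coc_mul (hadd : ∀ a ∈ H, ∀ c ∈ H, θ (a * c) = θ a + θ c)
    (hs : ∀ i, (s i : G ⧸ H) = i) (g h : G) (i : G ⧸ H) :
    coc θ s (g * h) i = coc θ s g (h • i) + coc θ s h i := by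
  unfold coc
  rw [mul_smul, ← hadd _ (coc_mem s hs g (h • i)) _ (coc_mem s hs h i)]
  congr 1
  group

/-- The invariant carried along the chain. -/
structure Good (X M : Subgroup G) (b : G ⧸ H) : Prop where
  le : M ≤ X
  stab : ∀ g ∈ X, g • b = b → g ∈ M

omit [Finite G] in
theorem Good.mem_iff {M : Subgroup G} (hM : Good X M b) {g : G} (hg : g ∈ X) :
    g • b ∈ orbSet M b ↔ g ∈ M := by
  rw [mem_orbSet]
  refine ⟨?_, fun h => ⟨g, h, rfl⟩⟩
  rintro ⟨m, hm, h⟩
  have h2 := hM.stab (m⁻¹ * g) (mul_mem (inv_mem (hM.le hm)) hg) (by rw [mul_smul, ← h, inv_smul_smul])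
  have := mul_mem hm h2
  rwa [mul_inv_cancel_left] at this

omit [Finite G] in
theorem fib_add (hadd : ∀ a ∈ H, ∀ c ∈ H, θ (a * c) = θ a + θ c) (hs : ∀ i, (s i : G ⧸ H) = i)
    (M : Subgroup G) (g : G) {h : G} (hh : h ∈ M) :
    fib θ s M b (g * h) = fib θ s M b g + fib θ s M b h := by
  classical
  unfold fib
  rw [Finset.sum_congr rfl fun i _ => coc_mul hadd hs g h i, Finset.sum_add_distrib]
  congr 1
  refine Finset.sum_nbij' (fun i => h • i) (fun i => h⁻¹ • i) ?_ ?_ ?_ ?_ ?_
  · intro i hi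
    obtain ⟨m, hm, rfl⟩ := mem_orbSet.mp hi
    exact mem_orbSet.mpr ⟨h * m, mul_mem hh hm, mul_smul _ _ _⟩
  · intro i hi
    obtain ⟨m, hm, rfl⟩ := mem_orbSet.mp hi
    exact mem_orbSet.mpr ⟨h⁻¹ * m, mul_mem (inv_mem hh) hm, mul_smul _ _ _⟩
  · intro i _; exact inv_smul_smul _ _
  · intro i _; exact smul_inv_smul _ _
  · intro i _; rfl

/-- One step: `M' = M ∪ e M`. -/
theorem step (S : Setting z H E) (hadd : ∀ a ∈ H, ∀ c ∈ H, θ (a * c) = θ a + θ c)
    (hs : ∀ i, (s i : G ⧸ H) = i) (hX : IsPGroup 2 X) (hEX : E ≤ X) (hXH : X ≤ H)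
    {M : Subgroup G} (hM : Good X M b) (hzM : z ∈ M) (hne : ¬ E ≤ M) :
    ∃ (M' : Subgroup G) (e : G), Good X M' b ∧ M ≤ M' ∧ e ∈ E ∧ e ∉ M ∧ e ∈ M' ∧
      (∀ y ∈ M', y ∈ M ∨ e⁻¹ * y ∈ M) ∧
      (∀ y ∈ M, y⁻¹ * (e⁻¹ * y * e) ∈ E ∧ y⁻¹ * (e⁻¹ * y * e) ∈ M ∧
        fib θ s M' b y = fib θ s M b (y⁻¹ * (e⁻¹ * y * e))) ∧
      fib θ s M' b e = fib θ s M b (e * e) := by
  classical
  have hEn : M ≤ Subgroup.normalizer (E : Set G) := fun m hm => by
    rw [Subgroup.mem_normalizer_iff]
    intro a
    refine ⟨fun ha => S.hconj m (hXH (hM.le hm)) a ha, fun ha => ?_⟩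
    have := S.hconj m⁻¹ (inv_mem (hXH (hM.le hm))) _ ha
    simpa [mul_assoc] using this
  set L := E ⊔ M with hL
  have hLX : L ≤ X := sup_le hEX hM.le
  have hLp : IsPGroup 2 L := hX.to_le hLX
  haveI : Group.IsNilpotent L := hLp.isNilpotent
  have hlt : M.subgroupOf L < ⊤ := by
    rw [lt_top_iff_ne_top, Ne, Subgroup.subgroupOf_eq_top]
    exact fun h => hne (le_sup_left.trans h)
  obtain ⟨y, hy, hyM⟩ := SetLike.exists_of_lt (Group.normalizerCondition_of_isNilpotent _ hlt)
  obtain ⟨e, he, m, hm, hem⟩ := Cfsg.Agent.Lib.Coprime.exists_mul_of_mem_sup hEn y.2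
  have heM : e ∉ M := by
    intro h
    exact hyM (show (y : G) ∈ M by rw [hem]; exact mul_mem h hm)
  have henorm : ∀ u ∈ M, e⁻¹ * u * e ∈ M := by
    intro u hu
    have hyn := Subgroup.mem_normalizer_iff''.mp hy ⟨u, Subgroup.mem_sup_right hu⟩
    rw [Subgroup.mem_subgroupOf, Subgroup.mem_subgroupOf] at hyn
    have h2 : (y : G)⁻¹ * u * y ∈ M := hyn.mp hu
    rw [hem] at h2
    have h3 := mul_mem (mul_mem hm h2) (inv_mem hm)
    convert h3 using 1
    group
  have he2 : e * e ∈ M := by
    rcases S.hsq e he with h | h <;> rw [h]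
    · exact one_mem M
    · exact hzM
  let M' : Subgroup G :=
    { carrier := {y | y ∈ M ∨ e⁻¹ * y ∈ M}
      one_mem' := Or.inl (one_mem M)
      mul_mem' := by
        rintro p q (hp | hp) (hq | hq)
        · exact Or.inl (mul_mem hp hq)
        · refine Or.inr ?_
          have := mul_mem (henorm p hp) hq
          convert this using 1; group
        · refine Or.inr ?_
          have := mul_mem hp hq
          convert this using 1; group
        · refine Or.inl ?_
          have := mul_mem (mul_mem he2 (henorm _ hp)) hq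
          convert this using 1; group
      inv_mem' := by
        rintro p (hp | hp)
        · exact Or.inl (inv_mem hp)
        · refine Or.inr ?_
          have := henorm _ (mul_mem (inv_mem hp) (inv_mem he2))
          convert this using 1; group }
  have hMM' : M ≤ M' := fun u hu => Or.inl hu
  have heM' : e ∈ M' := Or.inr (by rw [inv_mul_cancel]; exact one_mem M)
  have hM' : Good X M' b := by
    refine ⟨fun u hu => hu.elim (fun h => hM.le h) fun h => ?_, fun g hg hgb => Or.inl (hM.stab g hg hgb)⟩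
    have := mul_mem (hEX he) (hM.le h)
    rwa [mul_inv_cancel_left] at this
  have hdisj : Disjoint (orbSet M b) ((orbSet M b).image (fun i => e • i)) := by
    rw [Finset.disjoint_left]
    intro i hi hi'
    obtain ⟨j, hj, rfl⟩ := Finset.mem_image.mp hi'
    obtain ⟨p, hp, rfl⟩ := mem_orbSet.mp hj
    rw [← mul_smul] at hi
    have h2 := (hM.mem_iff (mul_mem (hEX he) (hM.le hp))).mp hi
    exact heM (by simpa using mul_mem h2 (inv_mem hp))
  have horb : orbSet M' b = orbSet M b ∪ (orbSet M b).image (fun i => e • i) := by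
    ext i
    rw [Finset.mem_union, Finset.mem_image, mem_orbSet, mem_orbSet]
    constructor
    · rintro ⟨g, hg | hg, rfl⟩
      · exact Or.inl ⟨g, hg, rfl⟩
      · exact Or.inr ⟨(e⁻¹ * g) • b, mem_orbSet.mpr ⟨_, hg, rfl⟩, by rw [← mul_smul, mul_inv_cancel_left]⟩
    · rintro (⟨g, hg, rfl⟩ | ⟨j, hj, rfl⟩)
      · exact ⟨g, hMM' hg, rfl⟩
      · obtain ⟨p, hp, rfl⟩ := mem_orbSet.mp hj
        exact ⟨e * p, Or.inr (by rw [inv_mul_cancel_left]; exact hp), mul_smul _ _ _⟩
  have hsplit : ∀ y, fib θ s M' b y = fib θ s M b y + ∑ i ∈ orbSet M b, coc θ s y (e • i) := by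
    intro y
    unfold fib
    rw [horb, Finset.sum_union hdisj, Finset.sum_image fun a _ c _ h => MulAction.injective e h]
  refine ⟨M', e, hM', hMM', he, heM, heM', fun u hu => hu, fun u hu => ?_, ?_⟩
  · have hd : u⁻¹ * (e⁻¹ * u * e) ∈ M := mul_mem (inv_mem hu) (henorm u hu)
    refine ⟨?_, hd, ?_⟩
    · have h2 := mul_mem (S.hconj u⁻¹ (inv_mem (hXH (hM.le hu))) _ (inv_mem he)) he
      convert h2 using 1; group
    · have h1 : ∑ i ∈ orbSet M b, coc θ s u (e • i) = fib θ s M b (e⁻¹ * u * e) := by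
        have h2 : fib θ s M b (u * e) = (∑ i ∈ orbSet M b, coc θ s u (e • i)) + fib θ s M b e := by
          unfold fib
          rw [Finset.sum_congr rfl fun i _ => coc_mul hadd hs u e i, Finset.sum_add_distrib]
        have h3 := fib_add (b := b) hadd hs M e (henorm u hu)
        rw [show e * (e⁻¹ * u * e) = u * e by group, h2, add_comm (fib θ s M b e)] at h3
        exact add_right_cancel h3
      rw [hsplit, h1, show e⁻¹ * u * e = u * (u⁻¹ * (e⁻¹ * u * e)) by group,
        fib_add (b := b) hadd hs M u hd, ← add_assoc, two_smul_zero, zero_add]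
      congr 1
      group
  · rw [hsplit, add_comm]
    unfold fib
    rw [← Finset.sum_add_distrib]
    exact Finset.sum_congr rfl fun i _ => (coc_mul hadd hs e e i).symm

/-- Coboundary: if the top fiber sums vanish on their stabilizer, the orbit sum vanishes. -/
theorem orbit_sum_zero (hadd : ∀ a ∈ H, ∀ c ∈ H, θ (a * c) = θ a + θ c)
    (hs : ∀ i, (s i : G ⧸ H) = i) {M : Subgroup G} (hM : Good X M b)
    (hzero : ∀ y ∈ M, fib θ s M b y = 0) {x : G} (hx : x ∈ X) :
    ∑ i ∈ orbSet X b, coc θ s x i = 0 := by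
  classical
  let p : G ⧸ H → Finset (G ⧸ H) := fun i =>
    if h : ∃ g ∈ X, g • b = i then (orbSet M b).image (fun j => h.choose • j) else ∅
  have himg : ∀ g ∈ X, ∀ g' ∈ X, g • b ∈ (orbSet M b).image (fun j => g' • j) → g'⁻¹ * g ∈ M := by
    intro g hg g' hg' h
    obtain ⟨j, hj, hjeq⟩ := Finset.mem_image.mp h
    obtain ⟨m, hm, rfl⟩ := mem_orbSet.mp hj
    refine (hM.mem_iff (mul_mem (inv_mem hg') hg)).mp ?_
    rw [mul_smul, ← hjeq, inv_smul_smul]
    exact mem_orbSet.mpr ⟨m, hm, rfl⟩
  have himg2 : ∀ g g' : G, g'⁻¹ * g ∈ M →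
      (orbSet M b).image (fun j => g • j) = (orbSet M b).image (fun j => g' • j) := by
    intro g g' h
    ext i
    simp only [Finset.mem_image, mem_orbSet]
    constructor
    · rintro ⟨-, ⟨m, hm, rfl⟩, rfl⟩
      exact ⟨_, ⟨g'⁻¹ * g * m, mul_mem h hm, rfl⟩,
        by rw [← mul_smul, ← mul_smul]; congr 1; group⟩
    · rintro ⟨-, ⟨m, hm, rfl⟩, rfl⟩
      exact ⟨_, ⟨(g'⁻¹ * g)⁻¹ * m, mul_mem (inv_mem h) hm, rfl⟩,
        by rw [← mul_smul, ← mul_smul]; congr 1; group⟩
  have hp : ∀ g ∈ X, p (g • b) = (orbSet M b).image (fun j => g • j) := by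
    intro g hg
    have h : ∃ g' ∈ X, g' • b = g • b := ⟨g, hg, rfl⟩
    simp only [p, dif_pos h]
    obtain ⟨h1, h2⟩ := h.choose_spec
    refine (himg2 _ _ ?_).symm
    refine himg g hg _ h1 (Finset.mem_image.mpr ⟨b, mem_orbSet.mpr ⟨1, one_mem M, one_smul G b⟩, h2⟩)
  set PP := (orbSet X b).image p with hPP
  rw [← Finset.sum_fiberwise_of_maps_to (g := p) (t := PP) (fun i hi => Finset.mem_image_of_mem p hi)]
  let t : Finset (G ⧸ H) → G := fun A =>
    if h : ∃ g ∈ X, (orbSet M b).image (fun j => g • j) = A then h.choose else 1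
  have ht : ∀ A ∈ PP, t A ∈ X ∧ (orbSet M b).image (fun j => t A • j) = A := by
    intro A hA
    obtain ⟨i, hi, rfl⟩ := Finset.mem_image.mp hA
    obtain ⟨g, hg, rfl⟩ := mem_orbSet.mp hi
    have h : ∃ g' ∈ X, (orbSet M b).image (fun j => g' • j) = p (g • b) := ⟨g, hg, (hp g hg).symm⟩
    simp only [t, dif_pos h]
    exact h.choose_spec
  let d : Finset (G ⧸ H) → ZMod 2 := fun A => fib θ s M b (t A)
  let nx : Finset (G ⧸ H) → Finset (G ⧸ H) := fun A => A.image (fun j => x • j)
  have hnx : ∀ A ∈ PP, nx A ∈ PP := by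
    intro A hA
    obtain ⟨i, hi, rfl⟩ := Finset.mem_image.mp hA
    obtain ⟨g, hg, rfl⟩ := mem_orbSet.mp hi
    refine Finset.mem_image.mpr ⟨(x * g) • b, mem_orbSet.mpr ⟨_, mul_mem hx hg, rfl⟩, ?_⟩
    rw [hp _ (mul_mem hx hg), hp g hg]
    simp only [nx, Finset.image_image]
    congr 1
    funext j
    exact mul_smul x g j
  have hterm : ∀ A ∈ PP, ∑ i ∈ (orbSet X b).filter (fun i => p i = A), coc θ s x i = d (nx A) + d A := by
    intro A hA
    obtain ⟨ht1, ht2⟩ := ht A hA
    obtain ⟨hu1, hu2⟩ := ht (nx A) (hnx A hA)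
    have hset : (orbSet X b).filter (fun i => p i = A) = (orbSet M b).image (fun j => t A • j) := by
      ext i
      rw [Finset.mem_filter, mem_orbSet]
      constructor
      · rintro ⟨⟨g, hg, rfl⟩, hgA⟩
        rw [hp g hg, ← ht2] at hgA
        rw [← hgA]
        exact Finset.mem_image.mpr ⟨b, mem_orbSet.mpr ⟨1, one_mem M, one_smul G b⟩, rfl⟩
      · intro hi
        obtain ⟨j, hj, rfl⟩ := Finset.mem_image.mp hi
        obtain ⟨m, hm, rfl⟩ := mem_orbSet.mp hj
        refine ⟨⟨t A * m, mul_mem ht1 (hM.le hm), mul_smul _ _ _⟩, ?_⟩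
        rw [← mul_smul, hp _ (mul_mem ht1 (hM.le hm)),
          himg2 (t A * m) (t A) (by rw [inv_mul_cancel_left]; exact hm), ht2]
    rw [hset, Finset.sum_image fun a _ c _ h => MulAction.injective _ h]
    have hy : (t (nx A))⁻¹ * (x * t A) ∈ M := by
      refine himg _ (mul_mem hx ht1) _ hu1 ?_
      rw [hu2]
      have hmemA : t A • b ∈ A := by
        have h := Finset.mem_image_of_mem (fun j => t A • j)
          (mem_orbSet.mpr ⟨1, one_mem M, one_smul G b⟩ : b ∈ orbSet M b)
        rwa [ht2] at h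
      exact Finset.mem_image.mpr ⟨t A • b, hmemA, (mul_smul _ _ _).symm⟩
    have h1 : fib θ s M b (x * t A) = d (nx A) := by
      rw [show x * t A = t (nx A) * ((t (nx A))⁻¹ * (x * t A)) by group,
        fib_add (b := b) hadd hs M _ hy, hzero _ hy, add_zero]
    have h2 : fib θ s M b (x * t A) = (∑ i ∈ orbSet M b, coc θ s x (t A • i)) + d A := by
      show _ = _ + fib θ s M b (t A)
      unfold fib
      rw [Finset.sum_congr rfl fun i _ => coc_mul hadd hs x (t A) i, Finset.sum_add_distrib]
    calc ∑ i ∈ orbSet M b, coc θ s x (t A • i)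
        = (∑ i ∈ orbSet M b, coc θ s x (t A • i)) + d A + d A := by
          rw [add_assoc, two_smul_zero, add_zero]
      _ = d (nx A) + d A := by rw [← h2, h1]
  rw [Finset.sum_congr rfl hterm, Finset.sum_add_distrib]
  have hinj : Function.Injective nx := fun A B h => Finset.image_injective (MulAction.injective x) h
  have himgP : PP.image nx = PP := by
    apply Finset.eq_of_subset_of_card_le
    · intro A hA
      obtain ⟨B, hB, rfl⟩ := Finset.mem_image.mp hA
      exact hnx B hB
    · rw [Finset.card_image_of_injective _ hinj]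
  have hperm : ∑ A ∈ PP, d (nx A) = ∑ A ∈ PP, d A := by
    conv_rhs => rw [← himgP]
    rw [Finset.sum_image fun a _ c _ h => hinj h]
  rw [hperm, two_smul_zero]

end Step

theorem orbit_zero [Fintype (G ⧸ H)] (S : Setting z H E) (θ : G → ZMod 2) (s : G ⧸ H → G)
    (hadd : ∀ a ∈ H, ∀ c ∈ H, θ (a * c) = θ a + θ c) (hs : ∀ i, (s i : G ⧸ H) = i)
    (hnot : ∀ g : G, g * z * g⁻¹ ∈ E → g * z * g⁻¹ = z) (hbig : 64 ≤ Nat.card E)
    {X : Subgroup G} (hX : IsPGroup 2 X) (hEX : E ≤ X) (hXH : X ≤ H) {x : G} (hx : x ∈ X)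
    {b : G ⧸ H} (hzb : z • b = b) (hb : b ≠ ((1 : G) : G ⧸ H)) :
    ∑ i ∈ orbSet X b, coc θ s x i = 0 := by
  classical
  set Q := X ⊓ MulAction.stabilizer G b with hQ
  have hQg : Good X Q b := ⟨inf_le_left, fun g hg h => ⟨hg, h⟩⟩
  have hzQ : z ∈ Q := ⟨hEX S.hzE, hzb⟩
  have hSfix : ∀ a ∈ Q, a • b = b := fun a ha => ha.2
  have hnidx : ∀ e ∈ E, ¬ ∀ c ∈ E, c • b = b ∨ (e⁻¹ * c) • b = b := by
    intro e heE hidx
    by_cases heb : e • b = b
    · refine hb (eq_base_of_forall_fix S fun c hc => (hidx c hc).elim id fun h => ?_)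
      rw [mul_smul, inv_smul_eq_iff, heb] at h
      exact h
    · have hw := mem_of_index_two S hzb heE heb hidx
      have := hnot _ hw
      refine hb ?_
      have ho : b.out ∈ H := (S.hH _).mpr (by
        calc b.out * z = (b.out * z * b.out⁻¹) * b.out := by group
          _ = z * b.out := by rw [this])
      rw [← QuotientGroup.out_eq' b, QuotientGroup.eq, mul_one]
      exact inv_mem ho
  have hne0 : ¬ E ≤ Q := fun h => hnidx 1 (one_mem E) fun c hc => Or.inl (hSfix c (h hc))
  have hfib0 : ∀ a, fib θ s Q b a = coc θ s a b := by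
    intro a
    unfold fib
    have : orbSet Q b = {b} := by
      ext i
      rw [mem_orbSet, Finset.mem_singleton]
      exact ⟨fun ⟨g, hg, h⟩ => h ▸ hSfix g hg, fun h => ⟨1, one_mem Q, by rw [one_smul, h]⟩⟩
    rw [this, Finset.sum_singleton]
  obtain ⟨M1, e1, hM1, hQ1, he1, he1n, he1m, hsub1, hst1, hsq1⟩ :=
    step (θ := θ) (s := s) S hadd hs hX hEX hXH hQg hzQ hne0
  have hne1 : ¬ E ≤ M1 := fun h => hnidx e1 he1 fun c hc =>
    (hsub1 c (h hc)).imp (hSfix c) (hSfix _)
  have hfib1z : ∀ M : Subgroup G, fib θ s M b 1 = 0 := fun M => by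
    have := fib_add (b := b) hadd hs M 1 (one_mem M)
    rw [mul_one] at this
    exact left_eq_add.mp this
  have hz1 : fib θ s M1 b z = 0 := by
    rw [(hst1 z hzQ).2.2, show z⁻¹ * (e1⁻¹ * z * e1) = 1 by
      rw [mul_assoc e1⁻¹, ← z_comm S he1]; group, hfib1z]
  obtain ⟨M2, e2, hM2, h12, he2, he2n, he2m, hsub2, hst2, hsq2⟩ :=
    step (θ := θ) (s := s) S hadd hs hX hEX hXH hM1 (hQ1 hzQ) hne1
  have hcz : ∀ u ∈ E, ∀ e ∈ E, u⁻¹ * (e⁻¹ * u * e) = 1 ∨ u⁻¹ * (e⁻¹ * u * e) = z := by
    intro u hu e he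
    have := S.hcomm u⁻¹ (inv_mem hu) e⁻¹ (inv_mem he)
    rw [commutatorElement_def] at this
    simpa [mul_assoc] using this
  have hD2 : ∀ u ∈ E, u ∈ M2 → fib θ s M2 b u = 0 := by
    intro u hu hu2
    have hbase : ∀ v ∈ E, v ∈ M1 → fib θ s M2 b v = 0 := by
      intro v hv hv1
      rw [(hst2 v hv1).2.2]
      rcases hcz v hv e2 he2 with h | h <;> rw [h]
      · exact hfib1z _
      · exact hz1
    rcases hsub2 u hu2 with h | h
    · exact hbase u hu h
    · rw [show u = e2 * (e2⁻¹ * u) by group, fib_add (b := b) hadd hs M2 e2 (h12 h),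
        hbase _ (mul_mem (inv_mem he2) hu) h, add_zero, hsq2]
      rcases S.hsq e2 he2 with h2 | h2 <;> rw [h2]
      · exact hfib1z _
      · exact hz1
  by_cases hE2 : E ≤ M2
  · by_cases hfz : coc θ s z b = 0
    · -- then the first level already vanishes on `E`
      have hcocz : ∀ u ∈ E, u ∈ M1 → fib θ s M1 b u = 0 := by
        intro u hu hu1
        have hbase : ∀ v ∈ E, v ∈ Q → fib θ s M1 b v = 0 := by
          intro v hv hvQ
          rw [(hst1 v hvQ).2.2]
          rcases hcz v hv e1 he1 with h | h <;> rw [h]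
          · exact hfib1z _
          · rw [hfib0]; exact hfz
        rcases hsub1 u hu1 with h | h
        · exact hbase u hu h
        · rw [show u = e1 * (e1⁻¹ * u) by group, fib_add (b := b) hadd hs M1 e1 (hQ1 h),
            hbase _ (mul_mem (inv_mem he1) hu) h, add_zero, hsq1]
          rcases S.hsq e1 he1 with h2 | h2 <;> rw [h2]
          · exact hfib1z _
          · rw [hfib0]; exact hfz
      refine orbit_sum_zero hadd hs hM2 (fun y hy => ?_) hx
      have hb1 : ∀ v ∈ M1, fib θ s M2 b v = 0 := by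
        intro v hv
        obtain ⟨h1, h2, h3⟩ := hst2 v hv
        rw [h3]
        exact hcocz _ h1 h2
      rcases hsub2 y hy with h | h
      · exact hb1 y h
      · rw [show y = e2 * (e2⁻¹ * y) by group, fib_add (b := b) hadd hs M2 e2 (h12 h), hb1 _ h,
          add_zero]
        exact hD2 e2 he2 he2m
    · -- the stabilizer is small
      exfalso
      set f : G → ZMod 2 := fun a => coc θ s a b with hf
      have hfadd : ∀ a c, c • b = b → f (a * c) = f a + f c := by
        intro a c hc
        show coc θ s (a * c) b = _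
        rw [coc_mul hadd hs, hc]
      have hf1 : f 1 = 0 := by
        have := hfadd 1 1 (one_smul G b)
        rw [mul_one] at this
        exact left_eq_add.mp this
      let St : Subgroup G := E ⊓ MulAction.stabilizer G b
      have hab : ∀ a ∈ St, ∀ c ∈ St, a * c = c * a := by
        intro a ha c hc
        by_contra hne
        have h1 : ⁅a, c⁆ = z := (S.hcomm a ha.1 c hc.1).resolve_left
          fun h => hne (commutatorElement_eq_one_iff_mul_comm.mp h)
        apply hfz
        have hai : (a⁻¹ : G) • b = b := inv_smul_eq_iff.mpr ha.2.symm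
        have hci : (c⁻¹ : G) • b = b := inv_smul_eq_iff.mpr hc.2.symm
        have hinv : ∀ g, g • b = b → f g⁻¹ = f g := fun g hg => by
          have h2 := hfadd g g⁻¹ (inv_smul_eq_iff.mpr hg.symm)
          rw [mul_inv_cancel, hf1] at h2
          calc f g⁻¹ = f g + (f g + f g⁻¹) := by rw [← add_assoc, two_smul_zero, zero_add]
            _ = f g := by rw [← h2, add_zero]
        show f z = 0
        rw [← h1, commutatorElement_def, hfadd _ _ hci, hfadd _ _ hai, hfadd _ _ hc.2,
          hinv a ha.2, hinv c hc.2]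
        calc f a + f c + f a + f c = (f a + f a) + (f c + f c) := by abel
          _ = 0 := by rw [two_smul_zero, two_smul_zero, add_zero]
      let g : St → ZMod 2 × Bool × Bool := fun a =>
        (f a, decide (⁅(a : G), e1⁆ = 1), decide (⁅(a : G), e2⁆ = 1))
      have hg : Function.Injective g := by
        intro a c h
        simp only [g, Prod.mk.injEq, decide_eq_decide] at h
        obtain ⟨hf', h1', h2'⟩ := h
        set d := (a : G)⁻¹ * c with hd
        have hdS : d ∈ St := mul_mem (inv_mem a.2) c.2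
        have hcomm : ∀ e ∈ E, (⁅(a : G), e⁆ = 1 ↔ ⁅(c : G), e⁆ = 1) → d * e = e * d := by
          intro e he hiff
          rcases S.hcomm a a.2.1 e he with ha | ha
          · have hc := hiff.mp ha
            rw [commutatorElement_eq_one_iff_mul_comm] at ha hc
            exact (Commute.inv_left (show Commute (a : G) e from ha)).mul_left hc
          · have hc : ⁅(c : G), e⁆ = z := (S.hcomm c c.2.1 e he).resolve_left fun h =>
              S.hz1 (by rw [← ha]; exact hiff.mpr h)
            have h3 : (a : G) * e = z * (e * a) := by rw [← ha]; exact conj_eq_mul_comm _ _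
            have h4 : (c : G) * e = z * (e * c) := by rw [← hc]; exact conj_eq_mul_comm _ _
            calc d * e = (a : G)⁻¹ * (c * e) := by rw [hd]; group
              _ = (a : G)⁻¹ * (z * (e * a)) * ((a : G)⁻¹ * c) := by rw [h4]; group
              _ = (a : G)⁻¹ * (a * e) * ((a : G)⁻¹ * c) := by rw [h3]
              _ = e * d := by rw [hd]; group
        have hd1 : d * e1 = e1 * d := hcomm e1 he1 h1'
        have hd2 : d * e2 = e2 * d := hcomm e2 he2 h2'
        have hcent : ∀ u ∈ E, d * u = u * d := by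
          intro u hu
          have key : ∀ v ∈ E, v ∈ M1 → d * v = v * d := by
            intro v hv hv1
            rcases hsub1 v hv1 with hh | hh
            · exact hab d hdS v ⟨hv, hSfix v hh⟩
            · have h5 := hab d hdS (e1⁻¹ * v) ⟨(mul_mem (inv_mem he1) hv : e1⁻¹ * v ∈ E), hSfix _ hh⟩
              calc d * v = (d * e1) * (e1⁻¹ * v) := by group
                _ = e1 * (d * (e1⁻¹ * v)) := by rw [hd1]; group
                _ = v * d := by rw [h5]; group
          rcases hsub2 u (hE2 hu) with hh | hh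
          · exact key u hu hh
          · have h5 := key (e2⁻¹ * u) (mul_mem (inv_mem he2) hu) hh
            calc d * u = (d * e2) * (e2⁻¹ * u) := by group
              _ = e2 * (d * (e2⁻¹ * u)) := by rw [hd2]; group
              _ = u * d := by rw [h5]; group
        rcases S.hZ d hdS.1 hcent with hh | hh
        · exact Subtype.ext (inv_mul_eq_one.mp hh)
        · exfalso
          apply hfz
          have h6 : f c = f a + f z := by
            rw [← hh, ← hfadd _ _ hdS.2, hd, mul_inv_cancel_left]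
          rw [← hf'] at h6
          exact left_eq_add.mp h6
      have hSt := Nat.card_le_card_of_injective g hg
      rw [Nat.card_prod, Nat.card_prod, Nat.card_zmod, Nat.card_eq_fintype_card (α := Bool),
        Fintype.card_bool] at hSt
      let sur : Bool × Bool × St → G := fun q =>
        (if q.1 then e2 else 1) * ((if q.2.1 then e1 else 1) * (q.2.2 : G))
      have hsur : ∀ u ∈ E, u ∈ Set.range sur := by
        intro u hu
        have key : ∀ v ∈ E, v ∈ M1 → ∃ c : Bool, ∃ t : St, (if c then e1 else 1) * (t : G) = v := by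
          intro v hv hv1
          rcases hsub1 v hv1 with hh | hh
          · exact ⟨false, ⟨v, hv, hSfix v hh⟩, one_mul v⟩
          · exact ⟨true, ⟨e1⁻¹ * v, (mul_mem (inv_mem he1) hv : e1⁻¹ * v ∈ E), hSfix _ hh⟩, mul_inv_cancel_left e1 v⟩
        rcases hsub2 u (hE2 hu) with hh | hh
        · obtain ⟨c, t, ht⟩ := key u hu hh
          exact ⟨(false, c, t), by show (1 : G) * _ = u; rw [ht, one_mul]⟩
        · obtain ⟨c, t, ht⟩ := key _ (mul_mem (inv_mem he2) hu) hh
          exact ⟨(true, c, t), by show e2 * _ = u; rw [ht, mul_inv_cancel_left]⟩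
      have hEle : Nat.card E ≤ Nat.card (Set.range sur) :=
        Nat.card_le_card_of_injective (fun u : E => (⟨u, hsur u u.2⟩ : Set.range sur))
          fun u v h => Subtype.ext (congrArg (fun t : Set.range sur => (t : G)) h)
      have hrange := Finite.card_range_le sur
      rw [Nat.card_prod, Nat.card_prod, Nat.card_eq_fintype_card (α := Bool), Fintype.card_bool]
        at hrange
      omega
  obtain ⟨M3, e3, hM3, h23, he3, -, he3m, hsub3, hst3, hsq3⟩ :=
    step (θ := θ) (s := s) S hadd hs hX hEX hXH hM2 (h12 (hQ1 hzQ)) hE2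
  refine orbit_sum_zero hadd hs hM3 (fun y hy => ?_) hx
  have hb2 : ∀ v ∈ M2, fib θ s M3 b v = 0 := by
    intro v hv
    obtain ⟨h1, h2, h3⟩ := hst3 v hv
    rw [h3]
    exact hD2 _ h1 h2
  rcases hsub3 y hy with h | h
  · exact hb2 y h
  · rw [show y = e3 * (e3⁻¹ * y) by group, fib_add (b := b) hadd hs M3 e3 (h23 h), hb2 _ h,
      add_zero, hsq3]
    rcases S.hsq e3 he3 with h2 | h2 <;> rw [h2]
    · exact hfib1z _
    · exact hD2 z S.hzE (h12 (hQ1 hzQ))

theorem main (hres : Cfsg.pResidual 2 G = ⊤) (z : G) (hz : orderOf z = 2)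
    (E : Subgroup G) (hE : E = (Cfsg.pCore 2 ↥(Subgroup.centralizer ({z} : Set G))).map (Subgroup.centralizer ({z} : Set G)).subtype)
    (hext : Cfsg.IsExtraspecial 2 ↥E) (hcent : Subgroup.centralizer (E : Set G) ≤ E) (n : ℕ) (hn : 3 ≤ n) (hcard : Nat.card ↥E = 2 ^ (2 * n + 1))
    (K : Subgroup G) (hKH : K ≤ Subgroup.centralizer ({z} : Set G))
    (hKi : K.relIndex (Subgroup.centralizer ({z} : Set G)) = 2) :
    ∃ g : G, g * z * g⁻¹ ∈ E ∧ g * z * g⁻¹ ≠ z := by
  classical
  by_contra hgoal
  push Not at hgoal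
  have S := setting_of z hz E hE hext hcent
  set H := Subgroup.centralizer ({z} : Set G) with hH
  haveI := Fintype.ofFinite (G ⧸ H)
  let θ : G → ZMod 2 := fun a => if a ∈ K then 0 else 1
  have hKi' : (K.subgroupOf H).index = 2 := hKi
  have hadd : ∀ a ∈ H, ∀ c ∈ H, θ (a * c) = θ a + θ c := by
    intro a ha c hc
    have h := Subgroup.mul_mem_iff_of_index_two (a := (⟨a, ha⟩ : H)) (b := ⟨c, hc⟩) hKi'
    simp only [Subgroup.mem_subgroupOf, Subgroup.coe_mul] at h
    by_cases h1 : a ∈ K <;> by_cases h2 : c ∈ K <;> simp only [θ, h1, h2, h, iff_self, if_true,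
      if_false, add_zero, zero_add, iff_true, iff_false, true_iff, false_iff, not_true, not_false_iff]
    rfl
  have hθ1 : θ 1 = 0 := if_pos (one_mem K)
  obtain ⟨g, hgH, hgK⟩ : ∃ g ∈ H, g ∉ K := by
    by_contra h
    push Not at h
    rw [Subgroup.relIndex_eq_one.mpr h] at hKi
    exact absurd hKi (by norm_num)
  -- a 2-element outside `K`
  obtain ⟨k, m, hm, hkm⟩ := Nat.exists_eq_two_pow_mul_odd (orderOf_pos g).ne'
  set x := g ^ m with hxdef
  have hpowθ : ∀ j : ℕ, θ (g ^ j) = (j : ZMod 2) := by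
    intro j
    induction j with
    | zero => simp [hθ1]
    | succ j ih =>
      rw [pow_succ, hadd _ (pow_mem hgH j) _ hgH, ih, Nat.cast_succ]
      congr 1
      exact if_neg hgK
  have hxθ : θ x = 1 := by rw [hxdef, hpowθ, ZMod.natCast_eq_one_iff_odd]; exact hm
  have hxH : x ∈ H := pow_mem hgH m
  have hxp : IsPGroup 2 (Subgroup.zpowers x) := by
    obtain ⟨j, -, hj⟩ := (Nat.dvd_prime_pow Nat.prime_two).mp
      (show orderOf x ∣ 2 ^ k from orderOf_dvd_of_pow_eq_one (by
        rw [hxdef, ← pow_mul, mul_comm, ← hkm, pow_orderOf_eq_one]))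
    exact IsPGroup.of_card (n := j) (by rw [Nat.card_zpowers, hj])
  have hEp : IsPGroup 2 E := hext.1.1
  set X := E ⊔ Subgroup.zpowers x with hXdef
  have hxn : Subgroup.zpowers x ≤ Subgroup.normalizer (E : Set G) := by
    rw [Subgroup.zpowers_le, Subgroup.mem_normalizer_iff]
    intro a
    refine ⟨fun ha => S.hconj x hxH a ha, fun ha => ?_⟩
    have := S.hconj x⁻¹ (inv_mem hxH) _ ha
    simpa [mul_assoc] using this
  have hXp : IsPGroup 2 X := hEp.to_sup_of_normal_left' hxp hxn
  have hXH : X ≤ H := sup_le S.hEH (Subgroup.zpowers_le.mpr hxH)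
  have hxX : x ∈ X := Subgroup.mem_sup_right (Subgroup.mem_zpowers x)
  have hbig : 64 ≤ Nat.card E := by
    rw [hcard]
    calc (64 : ℕ) = 2 ^ 6 := by norm_num
      _ ≤ 2 ^ (2 * n + 1) := Nat.pow_le_pow_right (by norm_num) (by omega)
  -- transfer
  set s : G ⧸ H → G := fun i => i.out with hsdef
  have hs : ∀ i, (s i : G ⧸ H) = i := fun i => QuotientGroup.out_eq' i
  have hV : ∀ a c : G, (∑ i, coc θ s (a * c) i) = (∑ i, coc θ s a i) + ∑ i, coc θ s c i := by
    intro a c
    rw [Finset.sum_congr rfl fun i _ => coc_mul hadd hs a c i, Finset.sum_add_distrib]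
    exact congrArg (· + _) (Equiv.sum_comp (MulAction.toPerm c) fun i => coc θ s a i)
  have htot : ∑ i, coc θ s x i = 0 := hom_zero hres (fun a => ∑ i, coc θ s a i) hV x
  set i₁ : G ⧸ H := ((1 : G) : G ⧸ H) with hi1
  have hfix1 : ∀ h ∈ H, h • i₁ = i₁ := fun h hh => by
    rw [hi1, MulAction.Quotient.smul_coe, smul_eq_mul, mul_one, QuotientGroup.eq, mul_one]
    exact inv_mem hh
  have hxz : x * z = z * x := (S.hH x).mp hxH
  have hxzi : ∀ i : G ⧸ H, z • x • i = x • z • i := fun i => by rw [← mul_smul, ← hxz, mul_smul]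
  set M := Finset.univ.filter (fun i : G ⧸ H => z • i ≠ i) with hM
  set Fx := Finset.univ.filter (fun i : G ⧸ H => z • i = i ∧ i ≠ i₁) with hFx
  have hsumM : ∑ i ∈ M, coc θ s x i = 0 := by
    have hMx : ∀ i ∈ M, x • i ∈ M := fun i hi => by
      rw [hM, Finset.mem_filter] at hi ⊢
      exact ⟨Finset.mem_univ _, fun h => hi.2 (MulAction.injective x ((hxzi i).symm.trans h))⟩
    let e := Fintype.equivFin (G ⧸ H)
    let t : G ⧸ H → G := fun i => if e i ≤ e (z • i) then i.out else z * (z • i).out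
    have hzz' : ∀ i : G ⧸ H, z • z • i = i := fun i => by rw [← mul_smul, S.hzz, one_smul]
    have ht : ∀ i, (t i : G ⧸ H) = i := by
      intro i
      simp only [t]
      split_ifs
      · exact QuotientGroup.out_eq' i
      · show ((z * (z • i).out : G) : G ⧸ H) = i
        rw [← smul_eq_mul, ← MulAction.Quotient.smul_coe, QuotientGroup.out_eq', hzz']
    have htz : ∀ i, z • i ≠ i → t (z • i) = z * t i := by
      intro i hi
      simp only [t, hzz']
      rcases le_total (e i) (e (z • i)) with h | h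
      · rw [if_pos h, if_neg (fun h' => hi (e.injective (le_antisymm h' h)))]
      · rw [if_pos h, if_neg (fun h' => hi (e.injective (le_antisymm h h'))), ← mul_assoc, S.hzz,
          one_mul]
    rw [coc_change hadd t s ht hs x M hMx]
    refine Finset.sum_involution (fun i _ => z • i) ?_ ?_ ?_ ?_
    · intro i hi
      have hi' : z • i ≠ i := (Finset.mem_filter.mp hi).2
      have hxi : z • x • i ≠ x • i := (Finset.mem_filter.mp (hMx i hi)).2
      have : coc θ t x (z • i) = coc θ t x i := by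
        unfold coc
        rw [← hxzi, htz _ hxi, htz i hi']
        congr 1
        calc (z * t (x • i))⁻¹ * x * (z * t i) = (t (x • i))⁻¹ * z⁻¹ * (x * z) * t i := by group
          _ = (t (x • i))⁻¹ * x * t i := by rw [hxz]; group
      rw [this, two_smul_zero]
    · intro i hi _
      exact (Finset.mem_filter.mp hi).2
    · intro i hi
      refine Finset.mem_filter.mpr ⟨Finset.mem_univ _, fun h => (Finset.mem_filter.mp hi).2 ?_⟩
      exact MulAction.injective z h
    · intro i _
      exact hzz' i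
  have hsumF : ∑ i ∈ Fx, coc θ s x i = 0 := by
    rw [← Finset.sum_fiberwise_of_maps_to (g := fun i => orbSet X i)
      (t := Fx.image fun i => orbSet X i) (fun i hi => Finset.mem_image_of_mem _ hi)]
    refine Finset.sum_eq_zero fun A hA => ?_
    obtain ⟨b, hb, rfl⟩ := Finset.mem_image.mp hA
    obtain ⟨hzb, hb1⟩ := (Finset.mem_filter.mp hb).2
    have hset : Fx.filter (fun i => orbSet X i = orbSet X b) = orbSet X b := by
      ext i
      rw [Finset.mem_filter]
      constructor
      · rintro ⟨-, h⟩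
        rw [← h]
        exact mem_orbSet.mpr ⟨1, one_mem X, one_smul G i⟩
      · intro hi
        obtain ⟨g', hg', rfl⟩ := mem_orbSet.mp hi
        refine ⟨Finset.mem_filter.mpr ⟨Finset.mem_univ _, ?_, ?_⟩, ?_⟩
        · rw [← mul_smul, ← (S.hH g').mp (hXH hg'), mul_smul, hzb]
        · intro h
          exact hb1 (MulAction.injective g' (h.trans (hfix1 g' (hXH hg')).symm))
        · ext j
          rw [mem_orbSet, mem_orbSet]
          constructor
          · rintro ⟨a, ha, rfl⟩; exact ⟨a * g', mul_mem ha hg', mul_smul _ _ _⟩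
          · rintro ⟨a, ha, rfl⟩
            exact ⟨a * g'⁻¹, mul_mem ha (inv_mem hg'), by rw [mul_smul, inv_smul_smul]⟩
    rw [hset]
    exact orbit_zero S θ s hadd hs hgoal hbig hXp le_sup_left hXH hxX hzb hb1
  have hsplit : ∑ i, coc θ s x i =
      coc θ s x i₁ + (∑ i ∈ M, coc θ s x i + ∑ i ∈ Fx, coc θ s x i) := by
    rw [← Finset.add_sum_erase _ _ (Finset.mem_univ i₁)]
    congr 1
    have hdisj : Disjoint M Fx := Finset.disjoint_left.mpr fun a ha hb => by
      rw [hM, Finset.mem_filter] at ha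
      rw [hFx, Finset.mem_filter] at hb
      exact ha.2 hb.2.1
    rw [← Finset.sum_union hdisj]
    congr 1
    ext i
    simp only [hM, hFx, Finset.mem_erase, Finset.mem_union, Finset.mem_filter, Finset.mem_univ,
      true_and, and_true]
    constructor
    · intro hi
      by_cases h : z • i = i
      · exact Or.inr ⟨h, hi⟩
      · exact Or.inl h
    · rintro (h | h)
      · intro hi; exact h (hi ▸ hfix1 z (S.hEH S.hzE))
      · exact h.2
  rw [hsplit, hsumM, hsumF, add_zero, add_zero] at htot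
  have ho : i₁.out ∈ H := by
    have := QuotientGroup.out_eq' i₁
    rw [hi1, QuotientGroup.eq, mul_one] at this
    exact inv_mem_iff.mp this
  have h1 : coc θ s x i₁ = θ x := by
    unfold coc
    rw [hfix1 x hxH]
    show θ (i₁.out⁻¹ * x * i₁.out) = θ x
    rw [hadd _ (mul_mem (inv_mem ho) hxH) _ ho, hadd _ (inv_mem ho) _ hxH]
    have h2 := hadd _ (inv_mem ho) _ ho
    rw [inv_mul_cancel, hθ1] at h2
    calc θ i₁.out⁻¹ + θ x + θ i₁.out = θ x + (θ i₁.out⁻¹ + θ i₁.out) := by abel
      _ = θ x := by rw [← h2, add_zero]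
  rw [h1, hxθ] at htot
  exact one_ne_zero htot

end Cfsg.Agent.Lib.Transfer.ExtraspecialFusion
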