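import Mathlib
import Cfsg.Prelude.Def_Transfer
import Cfsg.Prelude.Def_Solvable
import Cfsg.Agent.Lib.Cores

namespace Cfsg.Agent.Lib.Transfer.ExtraspecialTransfer

open scoped commutatorElement

/-- The basic setting: `z` involution, `H = C(z)`, `E` large extraspecial. -/
structure Setting {G : Type*} [Group G] (z : G) (H E : Subgroup G) : Prop where
  hzz : z * z = 1
  hz1 : z ≠ 1
  hH : ∀ g, g ∈ H ↔ g * z = z * g
  hEH : E ≤ H
  hzE : z ∈ E
  hconj : ∀ h ∈ H, ∀ e ∈ E, h * e * h⁻¹ ∈ E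
  hcomm : ∀ a ∈ E, ∀ b ∈ E, ⁅a, b⁆ = 1 ∨ ⁅a, b⁆ = z
  hsq : ∀ a ∈ E, a * a = 1 ∨ a * a = z
  hcent : ∀ x : G, (∀ e ∈ E, x * e = e * x) → x ∈ E
  hZ : ∀ x ∈ E, (∀ e ∈ E, x * e = e * x) → x = 1 ∨ x = z

variable {G : Type*} [Group G] {z : G} {H E : Subgroup G}

theorem two_smul_zero (a : ZMod 2) : a + a = 0 := by
  rw [← two_mul, show (2 : ZMod 2) = 0 from rfl, zero_mul]

theorem smul_fix_iff (g : G) (i : G ⧸ H) : g • i = i ↔ i.out⁻¹ * g * i.out ∈ H := by
  conv_lhs => rw [← QuotientGroup.out_eq' i]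
  rw [MulAction.Quotient.smul_coe, smul_eq_mul, eq_comm, QuotientGroup.eq, mul_assoc]

theorem fix_iff_comm (S : Setting z H E) (g : G) (i : G ⧸ H) :
    g • i = i ↔ g * (i.out * z * i.out⁻¹) = (i.out * z * i.out⁻¹) * g := by
  rw [smul_fix_iff, S.hH]
  constructor
  · intro h
    calc g * (i.out * z * i.out⁻¹) = i.out * (i.out⁻¹ * g * i.out * z) * i.out⁻¹ := by group
      _ = i.out * (z * (i.out⁻¹ * g * i.out)) * i.out⁻¹ := by rw [h]
      _ = (i.out * z * i.out⁻¹) * g := by group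
  · intro h
    calc i.out⁻¹ * g * i.out * z = i.out⁻¹ * (g * (i.out * z * i.out⁻¹)) * i.out := by group
      _ = i.out⁻¹ * ((i.out * z * i.out⁻¹) * g) * i.out := by rw [h]
      _ = z * (i.out⁻¹ * g * i.out) := by group

theorem eq_base_of_forall_fix (S : Setting z H E) {i : G ⧸ H} (h : ∀ e ∈ E, e • i = i) :
    i = ((1 : G) : G ⧸ H) := by
  set w := i.out * z * i.out⁻¹ with hw
  have hwE : w ∈ E := S.hcent w fun e he => ((fix_iff_comm S e i).mp (h e he)).symm
  have hw1 : w = 1 ∨ w = z := S.hZ w hwE fun e he => ((fix_iff_comm S e i).mp (h e he)).symm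
  have hw2 : w = z := hw1.resolve_left fun h1 => S.hz1 (by
    calc z = i.out⁻¹ * w * i.out := by rw [hw]; group
      _ = 1 := by rw [h1]; group)
  have ho : i.out ∈ H := (S.hH _).mpr (by
    calc i.out * z = w * i.out := by rw [hw]; group
      _ = z * i.out := by rw [hw2])
  rw [← QuotientGroup.out_eq' i, QuotientGroup.eq, mul_one]
  exact inv_mem ho

theorem conj_eq_mul_comm (a b : G) : a * b = ⁅a, b⁆ * (b * a) := by
  rw [commutatorElement_def]; group

theorem z_comm (S : Setting z H E) {e : G} (he : e ∈ E) : e * z = z * e := (S.hH e).mp (S.hEH he)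

/-- Theta vanishes on the stabilizer when it has index two in `E`. -/
theorem theta_stab_zero (S : Setting z H E) (θ : G → ZMod 2)
    (hP : ∀ h ∈ H, ∀ a ∈ H, ∀ b ∈ H, h * h = ⁅a, b⁆ → θ h = 0)
    {i : G ⧸ H} (hzi : z • i = i) {e : G} (heE : e ∈ E) (he : e • i ≠ i)
    (hidx : ∀ e' ∈ E, e' • i = i ∨ (e⁻¹ * e') • i = i)
    {a : G} (haE : a ∈ E) (ha : a • i = i) : θ (i.out⁻¹ * a * i.out) = 0 := by
  set o := i.out with ho
  set w := o * z * o⁻¹ with hw
  have haH : o⁻¹ * a * o ∈ H := (smul_fix_iff a i).mp ha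
  have hsqa : (o⁻¹ * a * o) * (o⁻¹ * a * o) = o⁻¹ * (a * a) * o := by group
  rcases S.hsq a haE with h1 | h1
  · exact hP _ haH 1 (one_mem H) 1 (one_mem H)
      (by rw [hsqa, h1, mul_one, inv_mul_cancel, commutatorElement_self])
  by_cases hab : ∃ a1 ∈ E, ∃ a2 ∈ E, a1 • i = i ∧ a2 • i = i ∧ ⁅a1, a2⁆ ≠ 1
  · obtain ⟨a1, h11, a2, h22, hf1, hf2, hne⟩ := hab
    have hc : ⁅a1, a2⁆ = z := (S.hcomm a1 h11 a2 h22).resolve_left hne
    refine hP _ haH (o⁻¹ * a1 * o) ((smul_fix_iff a1 i).mp hf1) (o⁻¹ * a2 * o)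
      ((smul_fix_iff a2 i).mp hf2) ?_
    rw [hsqa, h1, ← hc, commutatorElement_def, commutatorElement_def]
    group
  exfalso
  push Not at hab
  have hzc : ∀ x ∈ E, x * z = z * x := fun x hx => z_comm S hx
  have hwz : w * z = z * w := ((fix_iff_comm S z i).mp hzi).symm
  have hwH : w ∈ H := (S.hH w).mpr hwz
  have hww : w * w = 1 := by
    rw [hw, show o * z * o⁻¹ * (o * z * o⁻¹) = o * (z * z) * o⁻¹ by group, S.hzz]; group
  have hwinv : w⁻¹ = w := inv_eq_of_mul_eq_one_right hww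
  have hwfix : ∀ s ∈ E, s • i = i → w * s = s * w := fun s _ hs => ((fix_iff_comm S s i).mp hs).symm
  set c := e⁻¹ * (w * e * w⁻¹) with hc
  have hcE : c ∈ E := mul_mem (inv_mem heE) (S.hconj w hwH e heE)
  have hwe : w * e * w⁻¹ = e * c := by rw [hc]; group
  have hcs : ∀ s ∈ E, s • i = i → c * s = s * c := by
    intro s hsE hs
    have h2 := hwfix s hsE hs
    have hd : ⁅e * c, s⁆ = ⁅e, s⁆ := by
      rw [← hwe]
      have hs' : w * s * w⁻¹ = s := by rw [h2, mul_assoc, mul_inv_cancel, mul_one]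
      have hd' : w * ⁅e, s⁆ * w⁻¹ = ⁅e, s⁆ := by
        rcases S.hcomm e heE s hsE with hh | hh
        · rw [hh]; group
        · rw [hh, hwz, mul_assoc, mul_inv_cancel, mul_one]
      calc ⁅w * e * w⁻¹, s⁆ = ⁅w * e * w⁻¹, w * s * w⁻¹⁆ := by rw [hs']
        _ = w * ⁅e, s⁆ * w⁻¹ := by rw [commutatorElement_def, commutatorElement_def]; group
        _ = ⁅e, s⁆ := hd'
    have h3 : e * ⁅c, s⁆ * e⁻¹ * ⁅e, s⁆ = ⁅e, s⁆ := by
      conv_rhs => rw [← hd]
      rw [commutatorElement_def, commutatorElement_def, commutatorElement_def]; group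
    have h4 : ⁅c, s⁆ = 1 := by
      have h5 := mul_eq_right.mp h3
      calc ⁅c, s⁆ = e⁻¹ * (e * ⁅c, s⁆ * e⁻¹) * e := by group
        _ = 1 := by rw [h5]; group
    exact commutatorElement_eq_one_iff_mul_comm.mp h4
  have hcfix : c • i = i := by
    rcases hidx c hcE with h2 | h2
    · exact h2
    exfalso
    apply he
    rw [fix_iff_comm S]
    have h3 := hwfix (e⁻¹ * c) (mul_mem (inv_mem heE) hcE) h2
    have hee : w * (e * e) = (e * e) * w := by
      rcases S.hsq e heE with hh | hh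
      · rw [hh]; group
      · rw [hh, hwz]
    have h4 : w * (w * e * w⁻¹) = (w * e * w⁻¹) * w := by
      rw [hwe, show e * c = (e * e) * (e⁻¹ * c) by group]
      calc w * (e * e * (e⁻¹ * c)) = (w * (e * e)) * (e⁻¹ * c) := by group
        _ = (e * e) * (w * (e⁻¹ * c)) := by rw [hee]; group
        _ = e * e * (e⁻¹ * c) * w := by rw [h3]; group
    calc e * w = w⁻¹ * ((w * e * w⁻¹) * w) * w := by group
      _ = w⁻¹ * (w * (w * e * w⁻¹)) * w := by rw [h4]
      _ = w * e := by group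
  have hwc := hwfix c hcE hcfix
  have hcc : c * c = 1 := by
    have h2 : e = e * (c * c) := by
      calc e = w * (w * e * w⁻¹) * w⁻¹ := by
            rw [hwinv, show w * (w * e * w) * w = (w * w) * e * (w * w) by group, hww]; group
        _ = w * (e * c) * w⁻¹ := by rw [hwe]
        _ = (w * e * w⁻¹) * (w * c * w⁻¹) := by group
        _ = e * c * c := by rw [hwc, hwe]; group
        _ = e * (c * c) := mul_assoc _ _ _
    exact mul_eq_left.mp h2.symm
  have hce : c * e = e * c := by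
    have h2 : (e * c) * (e * c) = e * e := by
      rw [← hwe]
      rcases S.hsq e heE with hh | hh
      · rw [show w * e * w⁻¹ * (w * e * w⁻¹) = w * (e * e) * w⁻¹ by group, hh]; group
      · rw [show w * e * w⁻¹ * (w * e * w⁻¹) = w * (e * e) * w⁻¹ by group, hh, hwz]; group
    have h3 : c * e * c = e := mul_left_cancel (a := e) (by rw [← h2]; group)
    calc c * e = c * e * (c * c) := by rw [hcc, mul_one]
      _ = (c * e * c) * c := by group
      _ = e * c := by rw [h3]
  have hall : ∀ x ∈ E, ∀ d : G, (∀ s ∈ E, s • i = i → d * s = s * d) → d * e = e * d →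
      d * x = x * d := by
    intro x hx d hd hde
    rcases hidx x hx with h2 | h2
    · exact hd x hx h2
    · have h3 := hd _ (mul_mem (inv_mem heE) hx) h2
      calc d * x = (d * e) * (e⁻¹ * x) := by group
        _ = e * (d * (e⁻¹ * x)) := by rw [hde]; group
        _ = x * d := by rw [h3]; group
  have hcz : c = z := by
    rcases S.hZ c hcE (fun x hx => hall x hx c hcs hce) with h2 | h2
    · exfalso
      apply he
      rw [fix_iff_comm S]
      have h3 : w * e * w⁻¹ = e := by rw [hwe, h2, mul_one]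
      calc e * w = (w * e * w⁻¹) * w := by rw [h3]
        _ = w * e := by group
    · exact h2
  have hza : ∀ s ∈ E, s • i = i → a * s = s * a := fun s hs hsf =>
    commutatorElement_eq_one_iff_mul_comm.mp (hab a haE s hs ha hsf)
  have hae : ⁅e, a⁆ = z := by
    refine (S.hcomm e heE a haE).resolve_left fun h2 => ?_
    have h3 := (commutatorElement_eq_one_iff_mul_comm.mp h2).symm
    rcases S.hZ a haE (fun x hx => hall x hx a hza h3) with h4 | h4
    · exact S.hz1 (by rw [← h1, h4, mul_one])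
    · exact S.hz1 (by rw [← h1, h4, S.hzz])
  have hd1 : ∀ s ∈ E, s • i = i → (a⁻¹ * w) * s = s * (a⁻¹ * w) := by
    intro s hs hsf
    have h2 := hwfix s hs hsf
    have h3 := hza s hs hsf
    calc a⁻¹ * w * s = a⁻¹ * (w * s) := by group
      _ = a⁻¹ * s * w := by rw [h2]; group
      _ = a⁻¹ * (s * a) * a⁻¹ * w := by group
      _ = a⁻¹ * (a * s) * a⁻¹ * w := by rw [h3]
      _ = s * (a⁻¹ * w) := by group
  have hd2 : (a⁻¹ * w) * e = e * (a⁻¹ * w) := by
    have h2 : w * e = e * z * w := by rw [← hcz, ← hwe]; group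
    have h3 : e * z * a = a * e := by
      have h4 : e * a = z * (a * e) := by rw [← hae]; exact conj_eq_mul_comm e a
      calc e * z * a = e * (a * z) := by rw [mul_assoc, hzc a haE]
        _ = z * (a * e) * z := by rw [← mul_assoc, h4]
        _ = z * (a * e * z) := by group
        _ = z * (z * (a * e)) := by
          rw [mul_assoc a e z, hzc e heE, ← mul_assoc a z e, hzc a haE]; group
        _ = a * e := by rw [← mul_assoc, S.hzz, one_mul]
    calc a⁻¹ * w * e = a⁻¹ * (w * e) := by group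
      _ = a⁻¹ * (e * z * w) := by rw [h2]
      _ = a⁻¹ * (e * z * a) * a⁻¹ * w := by group
      _ = e * (a⁻¹ * w) := by rw [h3]; group
  have hdE := S.hcent (a⁻¹ * w) fun x hx => hall x hx _ hd1 hd2
  rcases S.hZ _ hdE (fun x hx => hall x hx _ hd1 hd2) with h2 | h2
  · rw [inv_mul_eq_one] at h2
    exact S.hz1 (by rw [← h1, h2, hww])
  · have h3 : w = a * z := by rw [← h2]; group
    exact S.hz1 (by
      calc z = a * a * (z * z) := by rw [h1, S.hzz, mul_one]
        _ = (a * z) * (a * z) := by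
          rw [show a * a * (z * z) = a * (a * z) * z by group]
          conv_lhs => rw [hzc a haE]
          group
        _ = 1 := by rw [← h3, hww])

/-- Complement and functional. -/
theorem exists_data [Finite G] (S : Setting z H E) (θ : G → ZMod 2)
    (hadd : ∀ a ∈ H, ∀ b ∈ H, θ (a * b) = θ a + θ b)
    (hP : ∀ h ∈ H, ∀ a ∈ H, ∀ b ∈ H, h * h = ⁅a, b⁆ → θ h = 0)
    (i : G ⧸ H) (hzi : z • i = i) :
    ∃ (U : Subgroup G) (F : G → ZMod 2), U ≤ E ∧
      (∀ u ∈ U, u • i = i → u = 1 ∨ u = z) ∧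
      (∀ e ∈ E, ∃ u ∈ U, (u⁻¹ * e) • i = i) ∧
      (∀ u ∈ U, F u = 0) ∧
      (∀ a ∈ E, ∀ b ∈ E, F (a * b) = F a + F b) ∧
      (∀ s ∈ E, s • i = i → F s = θ (i.out⁻¹ * s * i.out)) := by
  classical
  set f : G → ZMod 2 := fun s => θ (i.out⁻¹ * s * i.out) with hf
  have hfz : f z = 0 := hP _ ((smul_fix_iff z i).mp hzi) 1 (one_mem H) 1 (one_mem H) (by
    rw [show i.out⁻¹ * z * i.out * (i.out⁻¹ * z * i.out) = i.out⁻¹ * (z * z) * i.out by group,
      S.hzz, commutatorElement_self]; group)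
  have hθ1 : θ 1 = 0 := by
    have := hadd 1 (one_mem H) 1 (one_mem H)
    rw [mul_one] at this
    exact left_eq_add.mp this
  have hfadd : ∀ s t : G, s • i = i → t • i = i → f (s * t) = f s + f t := by
    intro s t hs ht
    show θ (i.out⁻¹ * (s * t) * i.out) = _
    rw [show i.out⁻¹ * (s * t) * i.out = (i.out⁻¹ * s * i.out) * (i.out⁻¹ * t * i.out) by group]
    exact hadd _ ((smul_fix_iff s i).mp hs) _ ((smul_fix_iff t i).mp ht)
  let P : Subgroup G → Prop := fun U => U ≤ E ∧ z ∈ U ∧ ∀ u ∈ U, u • i = i → u = 1 ∨ u = z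
  have hP0 : P (Subgroup.closure {z}) := by
    refine ⟨(Subgroup.closure_le E).mpr (Set.singleton_subset_iff.mpr S.hzE),
      Subgroup.mem_closure_singleton_self z, fun u hu _ => ?_⟩
    obtain ⟨n, rfl⟩ := Subgroup.mem_closure_singleton.mp hu
    rcases Int.even_or_odd n with ⟨m, rfl⟩ | ⟨m, rfl⟩
    · left; rw [← two_mul, zpow_mul, zpow_two, S.hzz, one_zpow]
    · right; rw [zpow_add, zpow_mul, zpow_two, S.hzz, one_zpow, one_mul, zpow_one]
  obtain ⟨U, -, hUP⟩ := Finite.exists_le_maximal hP0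
  obtain ⟨hUE, hzU, hUS⟩ := hUP.1
  have hzcE : ∀ x ∈ E, ∀ y ∈ E, x * y * x⁻¹ * y⁻¹ ∈ U := fun x hx y hy => by
    rcases S.hcomm x hx y hy with h | h <;> rw [commutatorElement_def] at h <;> rw [h]
    · exact one_mem U
    · exact hzU
  have hdec : ∀ e ∈ E, ∃ u ∈ U, (u⁻¹ * e) • i = i := by
    intro v hv
    by_contra hno
    push Not at hno
    let U' : Subgroup G :=
      { carrier := {g | g ∈ U ∨ (g ∈ E ∧ v⁻¹ * g ∈ U)}
        one_mem' := Or.inl (one_mem U)
        mul_mem' := by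
          rintro a b (ha | ⟨haE, ha⟩) (hb | ⟨hbE, hb⟩)
          · exact Or.inl (mul_mem ha hb)
          · refine Or.inr ⟨mul_mem (hUE ha) hbE, ?_⟩
            have := mul_mem (mul_mem (hzcE v⁻¹ (inv_mem hv) a (hUE ha)) ha) hb
            convert this using 1; group
          · refine Or.inr ⟨mul_mem haE (hUE hb), ?_⟩
            convert mul_mem ha hb using 1; group
          · refine Or.inl ?_
            have h2 : v * v ∈ U := by
              rcases S.hsq v hv with h | h <;> rw [h]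
              · exact one_mem U
              · exact hzU
            have := mul_mem (mul_mem (mul_mem (hzcE v hv (v⁻¹ * a) (hUE ha)) ha) h2) hb
            convert this using 1; group
        inv_mem' := by
          rintro a (ha | ⟨haE, ha⟩)
          · exact Or.inl (inv_mem ha)
          · refine Or.inr ⟨inv_mem haE, ?_⟩
            have h2 : v⁻¹ * v⁻¹ ∈ U := by
              rcases S.hsq v⁻¹ (inv_mem hv) with h | h <;> rw [h]
              · exact one_mem U
              · exact hzU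
            have h3 := mul_mem (hzcE v⁻¹ (inv_mem hv) (v⁻¹ * a)⁻¹ (inv_mem (hUE ha))) (inv_mem ha)
            have := mul_mem h3 h2
            convert this using 1; group }
    have hle : U' ≤ U := hUP.2 (y := U') ⟨fun g hg => hg.elim (fun h => hUE h) And.left,
      Or.inl hzU, fun g hg hgi => hg.elim (fun h => hUS g h hgi) fun ⟨hgE, hg2⟩ => by
        exfalso
        set u := v⁻¹ * g with hu
        refine hno u⁻¹ (inv_mem hg2) ?_
        rw [inv_inv, hu]
        rcases S.hcomm (v⁻¹ * g) (hUE hg2) v hv with h | h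
        · rw [commutatorElement_eq_one_iff_mul_comm.mp h, mul_inv_cancel_left]
          exact hgi
        · rw [conj_eq_mul_comm (v⁻¹ * g) v, h, mul_inv_cancel_left, mul_smul, hgi, hzi]⟩
      (fun g hg => Or.inl hg)
    have hvU : v ∈ U := hle (Or.inr ⟨hv, by rw [inv_mul_cancel]; exact one_mem U⟩)
    exact hno v hvU (by rw [inv_mul_cancel, one_smul])
  let F : G → ZMod 2 := fun e =>
    if h : ∃ u ∈ U, (u⁻¹ * e) • i = i then f (h.choose⁻¹ * e) else 0
  have hF : ∀ e : G, ∀ u ∈ U, (u⁻¹ * e) • i = i → F e = f (u⁻¹ * e) := by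
    intro e u hu hui
    have h : ∃ u ∈ U, (u⁻¹ * e) • i = i := ⟨u, hu, hui⟩
    simp only [F, dif_pos h]
    obtain ⟨h1, h2⟩ := h.choose_spec
    set u' := h.choose
    have h3 : (u'⁻¹ * u) • i = i := by
      conv_lhs => rw [← hui]
      rw [← mul_smul, show u'⁻¹ * u * (u⁻¹ * e) = u'⁻¹ * e by group]
      exact h2
    rw [show u'⁻¹ * e = (u'⁻¹ * u) * (u⁻¹ * e) by group, hfadd _ _ h3 hui]
    rcases hUS _ (mul_mem (inv_mem h1) hu) h3 with h4 | h4
    · rw [h4, show f 1 = 0 by simp [f, hθ1], zero_add]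
    · rw [h4, hfz, zero_add]
  refine ⟨U, F, hUE, hUS, hdec, fun u hu => ?_, fun a ha b hb => ?_, fun s _ hs => ?_⟩
  · rw [hF u u hu (by rw [inv_mul_cancel, one_smul])]
    simp [f, hθ1]
  · obtain ⟨u, hu, hua⟩ := hdec a ha
    obtain ⟨v, hv, hvb⟩ := hdec b hb
    rcases S.hcomm (u⁻¹ * a) (mul_mem (inv_mem (hUE hu)) ha) v (hUE hv) with h | h
    · have h2 := conj_eq_mul_comm (u⁻¹ * a) v
      rw [h, one_mul] at h2
      have hprod : (u * v)⁻¹ * (a * b) = (u⁻¹ * a) * (v⁻¹ * b) := by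
        calc (u * v)⁻¹ * (a * b) = v⁻¹ * (u⁻¹ * a * v) * (v⁻¹ * b) := by group
          _ = (u⁻¹ * a) * (v⁻¹ * b) := by rw [h2]; group
      rw [hF a u hu hua, hF b v hv hvb, hF (a * b) (u * v) (mul_mem hu hv)
        (by rw [hprod, mul_smul, hvb, hua]), hprod]
      exact hfadd _ _ hua hvb
    · have h2 := conj_eq_mul_comm (u⁻¹ * a) v
      rw [h] at h2
      have hvz : v⁻¹ * z = z * v⁻¹ := z_comm S (inv_mem (hUE hv))
      have hprod : (u * v)⁻¹ * (a * b) = z * ((u⁻¹ * a) * (v⁻¹ * b)) := by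
        calc (u * v)⁻¹ * (a * b) = v⁻¹ * (u⁻¹ * a * v) * (v⁻¹ * b) := by group
          _ = (v⁻¹ * z) * (v * (u⁻¹ * a)) * (v⁻¹ * b) := by rw [h2]; group
          _ = z * ((u⁻¹ * a) * (v⁻¹ * b)) := by rw [hvz]; group
      have hfx : ((u⁻¹ * a) * (v⁻¹ * b)) • i = i := by rw [mul_smul, hvb, hua]
      rw [hF a u hu hua, hF b v hv hvb, hF (a * b) (u * v) (mul_mem hu hv)
        (by rw [hprod, mul_smul, hfx, hzi]), hprod, hfadd _ _ hzi hfx, hfz, zero_add]
      exact hfadd _ _ hua hvb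
  · rw [hF s 1 (one_mem U) (by rw [inv_one, one_mul]; exact hs), inv_one, one_mul]

/-- Cocycle of a section. -/
def coc (θ : G → ZMod 2) (s : G ⧸ H → G) (g : G) (i : G ⧸ H) : ZMod 2 :=
  θ ((s (g • i))⁻¹ * g * s i)

theorem coc_mem (s : G ⧸ H → G) (hs : ∀ i, (s i : G ⧸ H) = i) (g : G) (i : G ⧸ H) :
    (s (g • i))⁻¹ * g * s i ∈ H := by
  rw [mul_assoc, ← QuotientGroup.eq, hs]
  conv_lhs => rw [← hs i]
  rw [MulAction.Quotient.smul_coe, smul_eq_mul]

theorem coc_change {θ : G → ZMod 2} (hadd : ∀ a ∈ H, ∀ b ∈ H, θ (a * b) = θ a + θ b)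
    (s t : G ⧸ H → G) (hs : ∀ i, (s i : G ⧸ H) = i) (ht : ∀ i, (t i : G ⧸ H) = i)
    (g : G) (Y : Finset (G ⧸ H)) (hY : ∀ i ∈ Y, g • i ∈ Y) :
    ∑ i ∈ Y, coc θ t g i = ∑ i ∈ Y, coc θ s g i := by
  classical
  have hd : ∀ i, (s i)⁻¹ * t i ∈ H := fun i => by rw [← QuotientGroup.eq, hs, ht]
  set d : G ⧸ H → ZMod 2 := fun i => θ ((s i)⁻¹ * t i) with hd'
  have hθ1 : θ 1 = 0 := by
    have := hadd 1 (one_mem H) 1 (one_mem H)
    rw [mul_one] at this
    exact left_eq_add.mp this
  have hinv : ∀ a ∈ H, θ a⁻¹ = θ a := fun a ha => by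
    have h1 := hadd a ha a⁻¹ (inv_mem ha)
    rw [mul_inv_cancel, hθ1] at h1
    calc θ a⁻¹ = θ a + (θ a + θ a⁻¹) := by rw [← add_assoc, two_smul_zero, zero_add]
      _ = θ a := by rw [← h1, add_zero]
  have hterm : ∀ i, coc θ t g i = coc θ s g i + (d (g • i) + d i) := by
    intro i
    unfold coc
    rw [show (t (g • i))⁻¹ * g * t i =
      ((s (g • i))⁻¹ * t (g • i))⁻¹ * ((s (g • i))⁻¹ * g * s i) * ((s i)⁻¹ * t i) by group,
      hadd _ (mul_mem (inv_mem (hd _)) (coc_mem s hs g i)) _ (hd i),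
      hadd _ (inv_mem (hd _)) _ (coc_mem s hs g i), hinv _ (hd _)]
    show _ = _ + (θ _ + θ _)
    abel
  rw [Finset.sum_congr rfl fun i _ => hterm i, Finset.sum_add_distrib, Finset.sum_add_distrib]
  have hperm : ∑ i ∈ Y, d (g • i) = ∑ i ∈ Y, d i := by
    have himg : Y.image (fun i => g • i) = Y := by
      apply Finset.eq_of_subset_of_card_le
      · intro j hj
        obtain ⟨i, hi, rfl⟩ := Finset.mem_image.mp hj
        exact hY i hi
      · rw [Finset.card_image_of_injective _ (MulAction.injective g)]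
    conv_rhs => rw [← himg]
    rw [Finset.sum_image fun a _ b _ h => MulAction.injective g h]
  rw [hperm, two_smul_zero, add_zero]

theorem theta_eq_zero [Finite G] (S : Setting z H E) (θ : G → ZMod 2)
    (hadd : ∀ a ∈ H, ∀ b ∈ H, θ (a * b) = θ a + θ b)
    (hP : ∀ h ∈ H, ∀ a ∈ H, ∀ b ∈ H, h * h = ⁅a, b⁆ → θ h = 0)
    (hG : ∀ V : G → ZMod 2, (∀ g h, V (g * h) = V g + V h) → ∀ g, V g = 0)
    (x : G) (hx : x ∈ H) : θ x = 0 := by
  classical
  haveI := Fintype.ofFinite (G ⧸ H)
  set s₀ : G ⧸ H → G := fun i => i.out with hs0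
  have hs0' : ∀ i, (s₀ i : G ⧸ H) = i := fun i => QuotientGroup.out_eq' i
  have hV : ∀ g h : G, (∑ i, coc θ s₀ (g * h) i) = (∑ i, coc θ s₀ g i) + ∑ i, coc θ s₀ h i := by
    intro g h
    have h1 : ∀ i, coc θ s₀ (g * h) i = coc θ s₀ g (h • i) + coc θ s₀ h i := by
      intro i
      unfold coc
      rw [mul_smul, ← hadd _ (coc_mem s₀ hs0' g (h • i)) _ (coc_mem s₀ hs0' h i)]
      congr 1
      group
    rw [Finset.sum_congr rfl fun i _ => h1 i, Finset.sum_add_distrib]
    exact congrArg (· + _) (Equiv.sum_comp (MulAction.toPerm h) fun i => coc θ s₀ g i)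
  have htot : ∑ i, coc θ s₀ x i = 0 := hG (fun g => ∑ i, coc θ s₀ g i) hV x
  set i₁ : G ⧸ H := ((1 : G) : G ⧸ H) with hi1
  have hfix1 : ∀ h ∈ H, h • i₁ = i₁ := fun h hh => by
    rw [hi1, MulAction.Quotient.smul_coe, smul_eq_mul, mul_one, QuotientGroup.eq, mul_one]
    exact inv_mem hh
  have hne : ∀ h ∈ H, ∀ i, i ≠ i₁ → h • i ≠ i₁ := fun h hh i hi hc =>
    hi (MulAction.injective h (hc.trans (hfix1 h hh).symm))
  have hxz : x * z = z * x := (S.hH x).mp hx
  have hzH : z ∈ H := S.hEH S.hzE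
  have hxzi : ∀ i : G ⧸ H, z • x • i = x • z • i := fun i => by rw [← mul_smul, ← hxz, mul_smul]
  set M := Finset.univ.filter (fun i : G ⧸ H => z • i ≠ i) with hM
  set Fx := Finset.univ.filter (fun i : G ⧸ H => z • i = i ∧ i ≠ i₁) with hFx
  have hMx : ∀ i ∈ M, x • i ∈ M := fun i hi => by
    rw [hM, Finset.mem_filter] at hi ⊢
    exact ⟨Finset.mem_univ _, fun h => hi.2 (MulAction.injective x ((hxzi i).symm.trans h))⟩
  have hFxx : ∀ i ∈ Fx, x • i ∈ Fx := fun i hi => by
    rw [hFx, Finset.mem_filter] at hi ⊢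
    exact ⟨Finset.mem_univ _, by rw [hxzi, hi.2.1], hne x hx i hi.2.2⟩
  -- moved points
  have hsumM : ∑ i ∈ M, coc θ s₀ x i = 0 := by
    let e := Fintype.equivFin (G ⧸ H)
    let s : G ⧸ H → G := fun i => if e i ≤ e (z • i) then i.out else z * (z • i).out
    have hzz' : ∀ i : G ⧸ H, z • z • i = i := fun i => by rw [← mul_smul, S.hzz, one_smul]
    have hs : ∀ i, (s i : G ⧸ H) = i := by
      intro i
      simp only [s]
      split_ifs
      · exact QuotientGroup.out_eq' i
      · show ((z * (z • i).out : G) : G ⧸ H) = i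
        rw [← smul_eq_mul, ← MulAction.Quotient.smul_coe, QuotientGroup.out_eq', hzz']
    have hsz : ∀ i, z • i ≠ i → s (z • i) = z * s i := by
      intro i hi
      simp only [s, hzz']
      rcases le_total (e i) (e (z • i)) with h | h
      · rw [if_pos h, if_neg (fun h' => hi (e.injective (le_antisymm h' h)))]
      · rw [if_pos h, if_neg (fun h' => hi (e.injective (le_antisymm h h'))), ← mul_assoc, S.hzz,
          one_mul]
    rw [coc_change hadd s s₀ hs hs0' x M hMx]
    refine Finset.sum_involution (fun i _ => z • i) ?_ ?_ ?_ ?_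
    · intro i hi
      have hi' : z • i ≠ i := (Finset.mem_filter.mp hi).2
      have hxi : z • x • i ≠ x • i := (Finset.mem_filter.mp (hMx i hi)).2
      have : coc θ s x (z • i) = coc θ s x i := by
        unfold coc
        rw [← hxzi, hsz _ hxi, hsz i hi']
        congr 1
        calc (z * s (x • i))⁻¹ * x * (z * s i) = (s (x • i))⁻¹ * z⁻¹ * (x * z) * s i := by group
          _ = (s (x • i))⁻¹ * x * s i := by rw [hxz]; group
      rw [this, two_smul_zero]
    · intro i hi _
      exact (Finset.mem_filter.mp hi).2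
    · intro i hi
      refine Finset.mem_filter.mpr ⟨Finset.mem_univ _, fun h => (Finset.mem_filter.mp hi).2 ?_⟩
      exact MulAction.injective z h
    · intro i _
      exact hzz' i
  -- fixed points
  have hsumF : ∑ i ∈ Fx, coc θ s₀ x i = 0 := by
    let orb : G ⧸ H → Finset (G ⧸ H) := fun i => Finset.univ.filter (fun k => ∃ e ∈ E, e • i = k)
    have horb : ∀ e ∈ E, ∀ i, orb (e • i) = orb i := by
      intro e he i
      ext k
      simp only [orb, Finset.mem_filter, Finset.mem_univ, true_and]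
      constructor
      · rintro ⟨e', he', h⟩; exact ⟨e' * e, mul_mem he' he, by rw [mul_smul, h]⟩
      · rintro ⟨e', he', h⟩
        exact ⟨e' * e⁻¹, mul_mem he' (inv_mem he), by rw [mul_smul, inv_smul_smul, h]⟩
    have hself : ∀ i, i ∈ orb i := fun i =>
      Finset.mem_filter.mpr ⟨Finset.mem_univ _, 1, one_mem E, one_smul G i⟩
    let β : Finset (G ⧸ H) → G ⧸ H := fun A => if h : A.Nonempty then h.choose else i₁
    have hβ : ∀ i, β (orb i) ∈ orb i := fun i => by
      have h : (orb i).Nonempty := ⟨i, hself i⟩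
      simp only [β, dif_pos h]
      exact h.choose_spec
    let b : G ⧸ H → G ⧸ H := fun i => β (orb i)
    have hb : ∀ i, ∃ e ∈ E, e • i = b i := fun i => (Finset.mem_filter.mp (hβ i)).2
    have hbe : ∀ e ∈ E, ∀ i, b (e • i) = b i := fun e he i => congrArg β (horb e he i)
    have hbF : ∀ i ∈ Fx, b i ∈ Fx := by
      intro i hi
      obtain ⟨e, he, h⟩ := hb i
      rw [hFx, Finset.mem_filter] at hi ⊢
      rw [← h]
      exact ⟨Finset.mem_univ _, by rw [← mul_smul, ← z_comm S he, mul_smul, hi.2.1],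
        hne e (S.hEH he) i hi.2.2⟩
    have hdata : ∀ k : G ⧸ H, ∃ (U : Subgroup G) (F : G → ZMod 2), z • k = k → (U ≤ E ∧
      (∀ u ∈ U, u • k = k → u = 1 ∨ u = z) ∧ (∀ e ∈ E, ∃ u ∈ U, (u⁻¹ * e) • k = k) ∧
      (∀ u ∈ U, F u = 0) ∧ (∀ a ∈ E, ∀ b ∈ E, F (a * b) = F a + F b) ∧
      (∀ s ∈ E, s • k = k → F s = θ (k.out⁻¹ * s * k.out))) := by
      intro k
      by_cases hk : z • k = k
      · obtain ⟨U, F, h⟩ := exists_data S θ hadd hP k hk
        exact ⟨U, F, fun _ => h⟩
      · exact ⟨⊥, 0, fun h => absurd h hk⟩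
    choose U F hUF using hdata
    let r : G ⧸ H → G := fun i => if h : ∃ u ∈ U (b i), u • b i = i then h.choose else 1
    have hr : ∀ i ∈ Fx, r i ∈ U (b i) ∧ r i • b i = i := by
      intro i hi
      have h : ∃ u ∈ U (b i), u • b i = i := by
        obtain ⟨-, -, hdec, -⟩ := hUF (b i) (Finset.mem_filter.mp (hbF i hi)).2.1
        obtain ⟨e, he, hei⟩ := hb i
        obtain ⟨u, hu, hu'⟩ := hdec e⁻¹ (inv_mem he)
        refine ⟨u, hu, ?_⟩
        rw [mul_smul, inv_smul_eq_iff] at hu'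
        rw [← hu', ← hei, inv_smul_smul]
      simp only [r, dif_pos h]
      exact h.choose_spec
    let s : G ⧸ H → G := fun i => if i ∈ Fx then r i * (b i).out else i.out
    have hs : ∀ i, (s i : G ⧸ H) = i := by
      intro i
      simp only [s]
      split_ifs with h
      · rw [← smul_eq_mul, ← MulAction.Quotient.smul_coe, QuotientGroup.out_eq']
        exact (hr i h).2
      · exact QuotientGroup.out_eq' i
    rw [coc_change hadd s s₀ hs hs0' x Fx hFxx,
      ← Finset.sum_fiberwise_of_maps_to (g := b) (t := Fx) hbF]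
    refine Finset.sum_eq_zero fun b₀ hb₀ => ?_
    set B := Fx.filter (fun i => b i = b₀) with hB
    by_cases hBne : B = ∅
    · rw [hBne, Finset.sum_empty]
    obtain ⟨k₀, hk₀⟩ := Finset.nonempty_iff_ne_empty.mpr hBne
    have hbb : b b₀ = b₀ := by
      rw [hB, Finset.mem_filter] at hk₀
      obtain ⟨e, he, h⟩ := hb k₀
      rw [← hk₀.2, ← h, hbe e he, h]
    obtain ⟨hb0F, hzb₀, hb01⟩ := (⟨hb₀, (Finset.mem_filter.mp hb₀).2.1, (Finset.mem_filter.mp hb₀).2.2⟩ :
      b₀ ∈ Fx ∧ z • b₀ = b₀ ∧ b₀ ≠ i₁)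
    obtain ⟨hUE, hUS, hUdec, hF0, hFadd, hFs⟩ := hUF b₀ hzb₀
    set b₁ := b (x • b₀) with hb1
    have hxb0 : x • b₀ ∈ Fx := hFxx b₀ hb₀
    have hzb₁ : z • b₁ = b₁ := (Finset.mem_filter.mp (hbF _ hxb0)).2.1
    obtain ⟨hUE1, hUS1, hUdec1, hF01, hFadd1, hFs1⟩ := hUF b₁ hzb₁
    set e₀ := r (x • b₀) with he0
    obtain ⟨he0U, he0b⟩ : e₀ ∈ U b₁ ∧ e₀ • b₁ = x • b₀ := hr _ hxb0
    set K := θ (b₁.out⁻¹ * e₀⁻¹ * x * b₀.out) with hK
    have hKmem : b₁.out⁻¹ * e₀⁻¹ * x * b₀.out ∈ H := by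
      rw [show b₁.out⁻¹ * e₀⁻¹ * x * b₀.out = b₁.out⁻¹ * (e₀⁻¹ * x * b₀.out) by group,
        ← QuotientGroup.eq, QuotientGroup.out_eq', ← smul_eq_mul, ← MulAction.Quotient.smul_coe,
        QuotientGroup.out_eq', mul_smul, ← he0b, inv_smul_smul]
    set ψ : G → ZMod 2 := fun e => F b₁ (x * e * x⁻¹) with hψ
    have hψadd : ∀ a ∈ E, ∀ c ∈ E, ψ (a * c) = ψ a + ψ c := by
      intro a ha c hc
      show F b₁ (x * (a * c) * x⁻¹) = _
      rw [show x * (a * c) * x⁻¹ = (x * a * x⁻¹) * (x * c * x⁻¹) by group]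
      exact hFadd1 _ (S.hconj x hx a ha) _ (S.hconj x hx c hc)
    have hψz : ψ z = 0 := by
      show F b₁ (x * z * x⁻¹) = 0
      rw [hxz, mul_inv_cancel_right, hFs1 z S.hzE hzb₁]
      exact hP _ ((smul_fix_iff z b₁).mp hzb₁) 1 (one_mem H) 1 (one_mem H) (by
        rw [show b₁.out⁻¹ * z * b₁.out * (b₁.out⁻¹ * z * b₁.out) =
          b₁.out⁻¹ * (z * z) * b₁.out by group, S.hzz, commutatorElement_self]; group)
    have hψ1 : ψ 1 = 0 := by
      have := hψadd 1 (one_mem E) 1 (one_mem E)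
      rw [mul_one] at this
      exact left_eq_add.mp this
    have hterm : ∀ k ∈ B, coc θ s x k = ψ (r k) + K := by
      intro k hk
      obtain ⟨hkF, hkb⟩ := Finset.mem_filter.mp hk
      obtain ⟨hrU, hrb⟩ := hr k hkF
      rw [hkb] at hrU hrb
      have hxk : x • k = (x * r k * x⁻¹) • (x • b₀) := by
        rw [← mul_smul, inv_mul_cancel_right, mul_smul, hrb]
      have hbxk : b (x • k) = b₁ := by rw [hxk, hbe _ (S.hconj x hx _ (hUE hrU))]
      obtain ⟨hr'U, hr'b⟩ := hr (x • k) (hFxx k hkF)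
      rw [hbxk] at hr'U hr'b
      set r' := r (x • k)
      set a := r'⁻¹ * (x * r k * x⁻¹) * e₀ with ha
      have haE : a ∈ E := mul_mem (mul_mem (inv_mem (hUE1 hr'U)) (S.hconj x hx _ (hUE hrU))) (hUE1 he0U)
      have hafix : a • b₁ = b₁ := by
        rw [ha, mul_smul, mul_smul, he0b, ← hxk]
        rw [inv_smul_eq_iff]
        exact hr'b.symm
      show θ ((s (x • k))⁻¹ * x * s k) = _
      simp only [s, if_pos hkF, if_pos (hFxx k hkF)]
      rw [hbxk, hkb, show (r' * b₁.out)⁻¹ * x * (r k * b₀.out) =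
        (b₁.out⁻¹ * a * b₁.out) * (b₁.out⁻¹ * e₀⁻¹ * x * b₀.out) by rw [ha]; group,
        hadd _ ((smul_fix_iff a b₁).mp hafix) _ hKmem, ← hFs1 a haE hafix, ha,
        hFadd1 _ (mul_mem (inv_mem (hUE1 hr'U)) (S.hconj x hx _ (hUE hrU))) _ (hUE1 he0U),
        hFadd1 _ (inv_mem (hUE1 hr'U)) _ (S.hconj x hx _ (hUE hrU)), hF01 _ (inv_mem hr'U),
        hF01 _ he0U, zero_add, add_zero]
    rw [Finset.sum_congr rfl hterm]
    -- choice of the pairing element
    obtain ⟨w, hwU, hwfix, hwψ⟩ : ∃ w ∈ U b₀, w • b₀ ≠ b₀ ∧ ψ w = 0 := by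
      by_contra hno
      push Not at hno
      have hne0 : ∃ e ∈ E, e • b₀ ≠ b₀ := by
        by_contra h
        push Not at h
        exact hb01 (eq_base_of_forall_fix S h)
      obtain ⟨e, he, hemov⟩ := hne0
      obtain ⟨v, hvU, hve⟩ := hUdec e he
      have hvmov : v • b₀ ≠ b₀ := fun h => hemov (by
        have := hve; rw [mul_smul, inv_smul_eq_iff, h] at this; exact this)
      have hidx : ∀ c ∈ E, c • b₀ = b₀ ∨ (v⁻¹ * c) • b₀ = b₀ := by
        intro c hc
        obtain ⟨u, huU, huc⟩ := hUdec c hc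
        rw [mul_smul, inv_smul_eq_iff] at huc
        by_cases hu : u • b₀ = b₀
        · exact Or.inl (huc.trans hu)
        right
        rw [mul_smul, huc, ← mul_smul]
        by_contra hvu
        have h1 := hno _ (mul_mem (inv_mem hvU) huU) hvu
        apply h1
        have e1 : ψ v⁻¹ = ψ v := by
          have := hψadd v (hUE hvU) v⁻¹ (inv_mem (hUE hvU))
          rw [mul_inv_cancel, hψ1] at this
          calc ψ v⁻¹ = ψ v + (ψ v + ψ v⁻¹) := by rw [← add_assoc, two_smul_zero, zero_add]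
            _ = ψ v := by rw [← this, add_zero]
        have h2 : ∀ t : ZMod 2, t ≠ 0 → t = 1 := by decide
        rw [hψadd _ (inv_mem (hUE hvU)) _ (hUE huU), e1, h2 _ (hno v hvU hvmov), h2 _ (hno u huU hu)]
        exact two_smul_zero 1
      -- index two at b₁
      have hidx1 : ∀ c ∈ E, c • b₁ = b₁ ∨ ((x * v * x⁻¹)⁻¹ * c) • b₁ = b₁ := by
        intro c hc
        have he0E := hUE1 he0U
        have hconjfix : ∀ d ∈ E, (x⁻¹ * d * x) • b₀ = b₀ → d • b₁ = b₁ := by
          intro d hd hfd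
          have h1 : d • (x • b₀) = x • b₀ := by
            have h2 := congrArg (x • ·) hfd
            simp only [← mul_smul] at h2
            rw [show x * (x⁻¹ * d * x) = d * x by group] at h2
            rw [← mul_smul]; exact h2
          rw [← he0b] at h1
          rcases S.hcomm d hd e₀ he0E with h | h
          · rw [← mul_smul, conj_eq_mul_comm d e₀, h, one_mul, mul_smul] at h1
            exact MulAction.injective e₀ h1
          · rw [← mul_smul, conj_eq_mul_comm d e₀, h, mul_smul, mul_smul] at h1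
            have h3 : z • e₀ • d • b₁ = e₀ • z • d • b₁ := by
              rw [← mul_smul, ← z_comm S he0E, mul_smul]
            rw [h3, ← mul_smul z d, ← z_comm S hd, mul_smul, hzb₁] at h1
            exact MulAction.injective e₀ h1
        have hxc : x⁻¹ * c * x ∈ E := by
          have := S.hconj x⁻¹ (inv_mem hx) c hc; rwa [inv_inv] at this
        rcases hidx _ hxc with h | h
        · exact Or.inl (hconjfix c hc h)
        · refine Or.inr (hconjfix _ (mul_mem (inv_mem (S.hconj x hx v (hUE hvU))) hc) ?_)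
          rw [show x⁻¹ * ((x * v * x⁻¹)⁻¹ * c) * x = v⁻¹ * (x⁻¹ * c * x) by group]
          exact h
      have hb1mov : (x * v * x⁻¹) • b₁ ≠ b₁ := by
        intro h
        have hall : ∀ c ∈ E, c • b₁ = b₁ := fun c hc => (hidx1 c hc).elim id fun h2 => by
          rw [mul_smul, inv_smul_eq_iff, h] at h2; exact h2
        exact (Finset.mem_filter.mp (hbF _ hxb0)).2.2 (eq_base_of_forall_fix S hall)
      have hFv : ψ v = 0 := by
        show F b₁ (x * v * x⁻¹) = 0
        obtain ⟨u, huU, huv⟩ := hUdec1 _ (S.hconj x hx v (hUE hvU))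
        have h1 : F b₁ (u⁻¹ * (x * v * x⁻¹)) = 0 := by
          rw [hFs1 _ (mul_mem (inv_mem (hUE1 huU)) (S.hconj x hx v (hUE hvU))) huv]
          exact theta_stab_zero S θ hP hzb₁ (S.hconj x hx v (hUE hvU)) hb1mov hidx1
            (mul_mem (inv_mem (hUE1 huU)) (S.hconj x hx v (hUE hvU))) huv
        rw [hFadd1 _ (inv_mem (hUE1 huU)) _ (S.hconj x hx v (hUE hvU)), hF01 _ (inv_mem huU),
          zero_add] at h1
        exact h1
      exact hno v hvU hvmov hFv
    have hwE := hUE hwU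
    have hBw : ∀ k ∈ B, w • k ∈ B := by
      intro k hk
      rw [hB, Finset.mem_filter] at hk ⊢
      refine ⟨?_, by rw [hbe w hwE, hk.2]⟩
      rw [hFx, Finset.mem_filter] at hk ⊢
      exact ⟨Finset.mem_univ _, by rw [← mul_smul, ← z_comm S hwE, mul_smul, hk.1.2.1],
        hne w (S.hEH hwE) k hk.1.2.2⟩
    refine Finset.sum_involution (fun k _ => w • k) ?_ ?_ hBw ?_
    · intro k hk
      obtain ⟨hkF, hkb⟩ := Finset.mem_filter.mp hk
      obtain ⟨hwkF, hwkb⟩ := Finset.mem_filter.mp (hBw k hk)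
      obtain ⟨hrU, hrb⟩ := hr k hkF
      obtain ⟨hr2U, hr2b⟩ := hr (w • k) hwkF
      rw [hkb] at hrU hrb
      rw [hwkb] at hr2U hr2b
      have hmemU : (r (w • k))⁻¹ * (w * r k) ∈ U b₀ :=
        mul_mem (inv_mem hr2U) (mul_mem hwU hrU)
      have hfx : ((r (w • k))⁻¹ * (w * r k)) • b₀ = b₀ := by
        rw [mul_smul, mul_smul, hrb, inv_smul_eq_iff, hr2b]
      have h0 : ψ ((r (w • k))⁻¹ * (w * r k)) = 0 := by
        rcases hUS _ hmemU hfx with h | h <;> rw [h]
        · exact hψ1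
        · exact hψz
      have h2 : ψ (r (w • k)) = ψ (r k) := by
        have h3 := hψadd _ (hUE hr2U) _ (hUE hmemU)
        rw [mul_inv_cancel_left, h0, add_zero, hψadd _ hwE _ (hUE hrU), hwψ, zero_add] at h3
        exact h3.symm
      rw [h2, two_smul_zero]
    · intro k hk _ hwk
      apply hwfix
      obtain ⟨hkF, hkb⟩ := Finset.mem_filter.mp hk
      obtain ⟨hrU, hrb⟩ := hr k hkF
      rw [hkb] at hrU hrb
      rw [← hrb, ← mul_smul] at hwk
      rcases S.hcomm w hwE (r k) (hUE hrU) with h | h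
      · rw [conj_eq_mul_comm w (r k), h, one_mul, mul_smul] at hwk
        exact MulAction.injective _ hwk
      · rw [conj_eq_mul_comm w (r k), h, mul_smul, mul_smul] at hwk
        have h3 : z • r k • w • b₀ = r k • z • w • b₀ := by
          rw [← mul_smul, ← z_comm S (hUE hrU), mul_smul]
        rw [h3, ← mul_smul z w, ← z_comm S hwE, mul_smul, hzb₀] at hwk
        exact MulAction.injective _ hwk
    · intro k hk
      rw [← mul_smul]
      obtain ⟨hkF, -⟩ := Finset.mem_filter.mp hk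
      rcases S.hsq w hwE with h | h <;> rw [h]
      · exact one_smul G k
      · exact (Finset.mem_filter.mp hkF).2.1
  -- assemble
  have hsplit : ∑ i, coc θ s₀ x i =
      coc θ s₀ x i₁ + (∑ i ∈ M, coc θ s₀ x i + ∑ i ∈ Fx, coc θ s₀ x i) := by
    rw [← Finset.add_sum_erase _ _ (Finset.mem_univ i₁)]
    congr 1
    have hdisj : Disjoint M Fx := Finset.disjoint_left.mpr fun a ha hb => by
      rw [hM, Finset.mem_filter] at ha
      rw [hFx, Finset.mem_filter] at hb
      exact ha.2 hb.2.1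
    rw [← Finset.sum_union hdisj]
    congr 1
    ext i
    simp only [hM, hFx, Finset.mem_erase, Finset.mem_union, Finset.mem_filter, Finset.mem_univ,
      true_and, and_true]
    constructor
    · intro hi
      by_cases h : z • i = i
      · exact Or.inr ⟨h, hi⟩
      · exact Or.inl h
    · rintro (h | h)
      · intro hi; exact h (hi ▸ hfix1 z hzH)
      · exact h.2
  rw [hsplit, hsumM, hsumF, add_zero, add_zero] at htot
  have ho : i₁.out ∈ H := by
    have := QuotientGroup.out_eq' i₁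
    rw [hi1, QuotientGroup.eq, mul_one] at this
    exact inv_mem_iff.mp this
  have h1 : coc θ s₀ x i₁ = θ x := by
    unfold coc
    rw [hfix1 x hx]
    show θ (i₁.out⁻¹ * x * i₁.out) = θ x
    rw [hadd _ (mul_mem (inv_mem ho) hx) _ ho, hadd _ (inv_mem ho) _ hx]
    have h2 := hadd _ (inv_mem ho) _ ho
    rw [inv_mul_cancel] at h2
    have h3 : θ 1 = 0 := by
      have := hadd 1 (one_mem H) 1 (one_mem H)
      rw [mul_one] at this
      exact left_eq_add.mp this
    rw [h3] at h2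
    calc θ i₁.out⁻¹ + θ x + θ i₁.out = θ x + (θ i₁.out⁻¹ + θ i₁.out) := by abel
      _ = θ x := by rw [← h2, add_zero]
  rw [← h1]
  exact htot

/-- A functional on an abelian group killing all involutions and squares. -/
theorem exists_theta {A : Type*} [CommGroup A] [Finite A] {q : A} {k : ℕ}
    (hk : orderOf q = 2 ^ k) (hq : q ^ 2 ≠ 1) :
    ∃ (θ : A → ZMod 2) (g : A), (∀ a b, θ (a * b) = θ a + θ b) ∧
      (∀ a, a * a = 1 → θ a = 0) ∧ θ g = 1 := by
  classical
  let W : Subgroup A :=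
    { carrier := {g | ∃ v, g ^ 2 = v ^ 4}
      one_mem' := ⟨1, by simp⟩
      mul_mem' := by
        rintro a b ⟨v, hv⟩ ⟨w, hw⟩
        exact ⟨v * w, by rw [mul_pow, mul_pow, hv, hw]⟩
      inv_mem' := by
        rintro a ⟨v, hv⟩
        exact ⟨v⁻¹, by rw [inv_pow, inv_pow, hv]⟩ }
  have hW : W ≠ ⊤ := by
    intro htop
    let sq : A →* A := powMonoidHom 2
    let R := sq.range
    let f : R → R := fun a => ⟨(a : A) ^ 2, (a : A), rfl⟩
    have hf : Function.Surjective f := by
      rintro ⟨a, g, rfl⟩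
      obtain ⟨v, hv⟩ : g ∈ W := htop ▸ Subgroup.mem_top g
      exact ⟨⟨v ^ 2, v, rfl⟩, Subtype.ext (by
        show (v ^ 2) ^ 2 = g ^ 2
        rw [hv, ← pow_mul])⟩
    have hinj : Function.Injective f := Finite.injective_iff_surjective.mpr hf
    have hk2 : 2 ≤ k := by
      by_contra hlt
      apply hq
      rw [← orderOf_dvd_iff_pow_eq_one, hk]
      exact (Nat.pow_dvd_pow 2 (show k ≤ 1 by omega)).trans (by norm_num)
    set t := q ^ (2 ^ (k - 1)) with ht
    have htR : t ∈ R := ⟨q ^ (2 ^ (k - 2)), by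
      show (q ^ (2 ^ (k - 2))) ^ 2 = t
      rw [ht, ← pow_mul, ← pow_succ, show k - 2 + 1 = k - 1 by omega]⟩
    have ht1 : t ≠ 1 := by
      intro h
      rw [ht, ← orderOf_dvd_iff_pow_eq_one, hk] at h
      have := (Nat.pow_dvd_pow_iff_le_right (by norm_num : 1 < 2)).mp h
      omega
    have ht2 : t ^ 2 = 1 := by
      rw [ht, ← pow_mul, ← pow_succ, show k - 1 + 1 = k by omega, ← hk, pow_orderOf_eq_one]
    have := @hinj ⟨t, htR⟩ ⟨1, one_mem R⟩ (Subtype.ext (by show t ^ 2 = (1 : A) ^ 2; rw [ht2, one_pow]))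
    exact ht1 (congrArg Subtype.val this)
  obtain ⟨g, -, hg⟩ := SetLike.exists_of_lt (lt_top_iff_ne_top.mpr hW)
  obtain ⟨M, hWM, hM⟩ := Finite.exists_le_maximal (p := fun M : Subgroup A => W ≤ M ∧ g ∉ M)
    (a := W) ⟨le_rfl, hg⟩
  obtain ⟨hWM', hgM⟩ := hM.1
  have hsqM : ∀ a : A, a * a ∈ M := fun a => hWM' ⟨a, by rw [← pow_two, ← pow_mul]⟩
  have hcoset : ∀ v, v ∉ M → g⁻¹ * v ∈ M := by
    intro v hv
    by_contra hno
    let M' : Subgroup A :=
      { carrier := {a | a ∈ M ∨ v⁻¹ * a ∈ M}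
        one_mem' := Or.inl (one_mem M)
        mul_mem' := by
          rintro a b (ha | ha) (hb | hb)
          · exact Or.inl (mul_mem ha hb)
          · exact Or.inr (by rw [mul_left_comm]; exact mul_mem ha hb)
          · exact Or.inr (by rw [← mul_assoc]; exact mul_mem ha hb)
          · refine Or.inl ?_
            have := mul_mem (mul_mem ha hb) (hsqM v)
            convert this using 1
            rw [mul_mul_mul_comm v⁻¹ a v⁻¹ b]
            calc a * b = (v⁻¹ * v⁻¹) * (v * v) * (a * b) := by group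
              _ = v⁻¹ * v⁻¹ * (a * b) * (v * v) := by rw [mul_assoc, mul_comm (v * v), ← mul_assoc]
        inv_mem' := by
          rintro a (ha | ha)
          · exact Or.inl (inv_mem ha)
          · refine Or.inr ?_
            have := mul_mem (inv_mem ha) (inv_mem (hsqM v))
            convert this using 1
            rw [mul_inv_rev, inv_inv, mul_inv_rev]
            calc v⁻¹ * a⁻¹ = a⁻¹ * v⁻¹ := mul_comm _ _
              _ = a⁻¹ * v * (v⁻¹ * v⁻¹) := by group }
    have hgM' : g ∉ M' := by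
      rintro (h | h)
      · exact hgM h
      · apply hno
        have := inv_mem h
        rwa [mul_inv_rev, inv_inv] at this
    have hle := hM.2 (y := M') ⟨fun a ha => Or.inl (hWM' ha), hgM'⟩ (fun a ha => Or.inl ha)
    exact hv (hle (Or.inr (by rw [inv_mul_cancel]; exact one_mem M)))
  refine ⟨fun a => if a ∈ M then 0 else 1, g, fun a b => ?_, fun a ha => ?_, if_neg hgM⟩
  · by_cases ha : a ∈ M <;> by_cases hb : b ∈ M
    · simp [ha, hb, mul_mem ha hb]
    · have : a * b ∉ M := fun h => hb ((Subgroup.mul_mem_cancel_left M ha).mp h)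
      simp [ha, hb, this]
    · have : a * b ∉ M := fun h => ha ((Subgroup.mul_mem_cancel_right M hb).mp h)
      simp [ha, hb, this]
    · have hab : a * b ∈ M := by
        have := mul_mem (mul_mem (hcoset a ha) (hcoset b hb)) (hsqM g)
        convert this using 1
        rw [mul_mul_mul_comm g⁻¹ a g⁻¹ b]
        calc a * b = (g⁻¹ * g⁻¹) * (g * g) * (a * b) := by group
          _ = g⁻¹ * g⁻¹ * (a * b) * (g * g) := by rw [mul_assoc, mul_comm (g * g), ← mul_assoc]
      simp only [if_pos hab, if_neg ha, if_neg hb]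
      rfl
  · exact if_pos (hWM' ⟨1, by rw [pow_two, ha, one_pow]⟩)

theorem setting_of [Finite G] (z : G) (hz : orderOf z = 2)
    (E : Subgroup G) (hE : E = (Cfsg.pCore 2 ↥(Subgroup.centralizer ({z} : Set G))).map (Subgroup.centralizer ({z} : Set G)).subtype)
    (hext : Cfsg.IsExtraspecial 2 ↥E) (hcent : Subgroup.centralizer (E : Set G) ≤ E) :
    Setting z (Subgroup.centralizer ({z} : Set G)) E := by
  classical
  set H := Subgroup.centralizer ({z} : Set G) with hH
  have hEH : E ≤ H := by rw [hE]; exact Subgroup.map_subtype_le _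
  have hzc : ∀ g, g ∈ H ↔ g * z = z * g := fun g => Subgroup.mem_centralizer_singleton_iff
  have hzE : z ∈ E := hcent (Subgroup.mem_centralizer_iff.mpr fun e he => (hzc e).mp (hEH he))
  have hz1 : z ≠ 1 := fun h => by rw [h, orderOf_one] at hz; exact absurd hz (by norm_num)
  obtain ⟨⟨-, -, hder⟩, hcard⟩ := hext
  have hZ : ∀ x : E, x ∈ Subgroup.center E → x = 1 ∨ (x : G) = z := by
    intro x hx
    by_contra hcon
    push Not at hcon
    have hzZ : (⟨z, hzE⟩ : E) ∈ Subgroup.center E := Subgroup.mem_center_iff.mpr fun e =>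
      Subtype.ext ((hzc _).mp (hEH e.2))
    obtain ⟨a, b, hab, huniv⟩ := (Nat.card_eq_two_iff).mp hcard
    have key : ∀ t : Subgroup.center E, t = ⟨1, one_mem _⟩ ∨ t = ⟨_, hzZ⟩ := by
      have hne : (⟨1, one_mem _⟩ : Subgroup.center E) ≠ ⟨_, hzZ⟩ := fun h =>
        hz1 (congrArg (fun u : Subgroup.center E => ((u : E) : G)) h).symm
      intro t
      have h1 := huniv ▸ Set.mem_univ t
      have h2 := huniv ▸ Set.mem_univ (⟨1, one_mem _⟩ : Subgroup.center E)
      have h3 := huniv ▸ Set.mem_univ (⟨_, hzZ⟩ : Subgroup.center E)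
      simp only [Set.mem_insert_iff, Set.mem_singleton_iff] at h1 h2 h3
      grind
    rcases key ⟨x, hx⟩ with h | h
    · exact hcon.1 (congrArg Subtype.val h)
    · exact hcon.2 (congrArg (fun u : Subgroup.center E => ((u : E) : G)) h)
  have hzz : z * z = 1 := by rw [← pow_two, ← hz, pow_orderOf_eq_one]
  have hcomm : ∀ a ∈ E, ∀ b ∈ E, ⁅a, b⁆ = 1 ∨ ⁅a, b⁆ = z := by
    intro a ha b hb
    have h1 : ⁅(⟨a, ha⟩ : E), (⟨b, hb⟩ : E)⁆ ∈ Subgroup.center E := by
      rw [← hder, commutator_def]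
      exact Subgroup.commutator_mem_commutator (Subgroup.mem_top _) (Subgroup.mem_top _)
    rcases hZ _ h1 with h | h
    · exact Or.inl (congrArg Subtype.val h)
    · exact Or.inr h
  have hsq : ∀ a ∈ E, a * a = 1 ∨ a * a = z := by
    intro a ha
    have h1 : (⟨a * a, mul_mem ha ha⟩ : E) ∈ Subgroup.center E := by
      refine Subgroup.mem_center_iff.mpr fun b => Subtype.ext ?_
      show (b : G) * (a * a) = a * a * b
      rcases hcomm b b.2 a ha with h | h
      · rw [commutatorElement_eq_one_iff_mul_comm] at h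
        rw [← mul_assoc, h, mul_assoc, h, mul_assoc]
      · have h2 : (b : G) * a = z * (a * b) := by rw [← h]; exact conj_eq_mul_comm _ _
        have haz : a * z = z * a := (hzc a).mp (hEH ha)
        calc (b : G) * (a * a) = ((b : G) * a) * a := (mul_assoc _ _ _).symm
          _ = z * (a * b) * a := by rw [h2]
          _ = z * (a * ((b : G) * a)) := by group
          _ = z * (a * ((z * (a * b)))) := by rw [h2]
          _ = z * (a * z) * (a * b) := by group
          _ = (z * z) * (a * a * b) := by rw [haz]; group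
          _ = a * a * b := by rw [hzz, one_mul]
    rcases hZ _ h1 with h | h
    · exact Or.inl (congrArg Subtype.val h)
    · exact Or.inr h
  exact
    { hzz := hzz, hz1 := hz1, hH := hzc, hEH := hEH, hzE := hzE
      hconj := fun h hh e he => by
        rw [hE] at he ⊢
        obtain ⟨e', he', rfl⟩ := he
        exact ⟨⟨h, hh⟩ * e' * ⟨h, hh⟩⁻¹,
          (inferInstance : (Cfsg.pCore 2 ↥H).Normal).conj_mem e' he' ⟨h, hh⟩, rfl⟩
      hcomm := hcomm, hsq := hsq
      hcent := fun x hx => hcent (Subgroup.mem_centralizer_iff.mpr fun e he => (hx e he).symm)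
      hZ := fun x hx hxe => by
        rcases hZ ⟨x, hx⟩ (Subgroup.mem_center_iff.mpr fun e => Subtype.ext (hxe e e.2).symm) with h | h
        · exact Or.inl (congrArg Subtype.val h)
        · exact Or.inr h }

/-- A homomorphism to `ZMod 2` vanishes when `O^2(G) = G`. -/
theorem hom_zero (hres : Cfsg.pResidual 2 G = ⊤) (V : G → ZMod 2)
    (hV : ∀ g h, V (g * h) = V g + V h) (g₀ : G) : V g₀ = 0 := by
  have hV1 : V 1 = 0 := by
    have := hV 1 1
    rw [mul_one] at this
    exact left_eq_add.mp this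
  have hg0 : g₀ ∈ Cfsg.pResidual 2 G := hres ▸ Subgroup.mem_top g₀
  induction hg0 using Subgroup.closure_induction with
  | mem y hy =>
    have hpow : ∀ n : ℕ, V (y ^ n) = (n : ZMod 2) * V y := by
      intro n
      induction n with
      | zero => simp [hV1]
      | succ n ih => rw [pow_succ, hV, ih, Nat.cast_succ, add_mul, one_mul]
    have h1 := hpow (orderOf y)
    rw [pow_orderOf_eq_one, hV1] at h1
    have hodd : ((orderOf y : ℕ) : ZMod 2) = 1 := by
      rw [ZMod.natCast_eq_one_iff_odd, ← Nat.coprime_two_right]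
      exact hy
    rw [hodd, one_mul] at h1
    exact h1.symm
  | one => exact hV1
  | mul a b _ _ ha hb => rw [hV, ha, hb, add_zero]
  | inv a _ ha =>
    have := hV a a⁻¹
    rw [mul_inv_cancel, hV1, ha, zero_add] at this
    exact this.symm

theorem main [Finite G] (hres : Cfsg.pResidual 2 G = ⊤) (z : G) (hz : orderOf z = 2)
    (E : Subgroup G) (hE : E = (Cfsg.pCore 2 ↥(Subgroup.centralizer ({z} : Set G))).map (Subgroup.centralizer ({z} : Set G)).subtype)
    (hext : Cfsg.IsExtraspecial 2 ↥E) (hcent : Subgroup.centralizer (E : Set G) ≤ E) :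
    ∀ q : Abelianization ↥(Subgroup.centralizer ({z} : Set G)), (∃ k : ℕ, orderOf q = 2 ^ k) → q ^ 2 = 1 := by
  classical
  set H := Subgroup.centralizer ({z} : Set G) with hH
  have S : Setting z H E := setting_of z hz E hE hext hcent
  rintro q ⟨k, hk⟩
  by_contra hq
  obtain ⟨t, g, hadd, hinv, hg⟩ := exists_theta hk hq
  let θ : G → ZMod 2 := fun a => if h : a ∈ H then t (Abelianization.of ⟨a, h⟩) else 0
  obtain ⟨g', hg'⟩ := QuotientGroup.mk_surjective (s := commutator ↥H) g
  have hθg : θ (g' : G) = 1 := by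
    simp only [θ, dif_pos g'.2]
    rw [← hg, ← hg']
    rfl
  have h0 : θ (g' : G) = 0 := by
    refine theta_eq_zero S θ ?_ ?_ ?_ g' g'.2
    · intro a ha b hb
      simp only [θ, dif_pos ha, dif_pos hb, dif_pos (mul_mem ha hb)]
      rw [← hadd, ← map_mul]
      rfl
    · intro h hh a ha b hb heq
      simp only [θ, dif_pos hh]
      apply hinv
      rw [← map_mul]
      have : (⟨h, hh⟩ : H) * ⟨h, hh⟩ = ⁅(⟨a, ha⟩ : H), ⟨b, hb⟩⁆ := Subtype.ext heq
      rw [this, map_commutatorElement, commutatorElement_eq_one_iff_mul_comm]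
      exact mul_comm _ _
    · exact fun V hV g₀ => hom_zero hres V hV g₀
  rw [hθg] at h0
  exact one_ne_zero h0

end Cfsg.Agent.Lib.Transfer.ExtraspecialTransfer
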