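import Cfsg.Agent.S2807

/-!
Yoshida's argument inside a `p`-group: a nontrivial transfer from a proper subgroup at an element
whose proper powers contribute nothing gives a quotient isomorphic to `C_p ≀ C_p`.
-/

set_option autoImplicit false

open Subgroup Cfsg.Agent.Lib.LocalEven

namespace Cfsg.Agent.Lib.Transfer

variable {G : Type*} [Group G] [Finite G] {p : ℕ} [hp : Fact p.Prime]

/-- The transfer commutes with homomorphisms of the target. -/
theorem transfer_comp {A B : Type*} [CommGroup A] [CommGroup B] (g : A →* B) {H : Subgroup G}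
    (χ : ↥H →* A) (x : G) :
    MonoidHom.transfer (g.comp χ) x = g (MonoidHom.transfer χ x) := by
  classical
  letI : Fintype (Quotient (MulAction.orbitRel (zpowers x) (G ⧸ H))) := Fintype.ofFinite _
  rw [MonoidHom.transfer_eq_prod_quotient_orbitRel_zpowers_quot,
    MonoidHom.transfer_eq_prod_quotient_orbitRel_zpowers_quot, map_prod]
  rfl

/-- A normal subgroup of index `p` with a nonvanishing conjugate sum gives a wreath quotient. -/
theorem exists_surjective_sylow_perm_sq (hG : IsPGroup p G) {M : Subgroup G} [hMn : M.Normal]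
    (hMi : M.index = p) (z : G) (y : ↥M) (μ : ↥M →* Multiplicative (ZMod p))
    (hsum : ∑ i ∈ Finset.range p, conjSeq μ z y i ≠ 0) :
    ∃ (W : Sylow p (Equiv.Perm (Fin (p ^ 2))))
      (f : G →* ↥(W : Subgroup (Equiv.Perm (Fin (p ^ 2))))), Function.Surjective f := by
  classical
  have hμ : Function.Surjective μ := by
    rw [← MonoidHom.range_eq_top]
    have h2 : Nat.card μ.range ∣ p := (Subgroup.card_subgroup_dvd_card _).trans (dvd_of_eq (by simp))
    rcases (Nat.dvd_prime Fact.out).1 h2 with h3 | h3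
    · refine absurd ?_ hsum
      refine Finset.sum_eq_zero fun i _ => ?_
      have h4 : ∀ m : ↥M, μ m = 1 := fun m =>
        Subgroup.mem_bot.1 (Subgroup.eq_bot_of_card_eq _ h3 ▸ (⟨m, rfl⟩ : μ m ∈ μ.range))
      unfold conjSeq
      simp [h4]
    · exact Subgroup.eq_top_of_card_eq _ (h3.trans (by simp))
  set K : Subgroup G := μ.ker.map M.subtype with hK
  have hKi : Nat.card (G ⧸ K) = p ^ 2 := by
    rw [← Subgroup.index_eq_card, hK, Subgroup.index_map_subtype, Subgroup.index_ker,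
      MonoidHom.range_eq_top.2 hμ, Subgroup.card_top, hMi, sq]
    simp
  obtain ⟨e⟩ : Nonempty ((G ⧸ K) ≃ Fin (p ^ 2)) :=
    ⟨(Finite.equivFin _).trans (finCongr hKi)⟩
  let Φ : G →* Equiv.Perm (Fin (p ^ 2)) :=
    e.permCongrHom.toMonoidHom.comp (MulAction.toPermHom G (G ⧸ K))
  have hΦp : IsPGroup p Φ.range := hG.of_surjective Φ.rangeRestrict Φ.rangeRestrict_surjective
  obtain ⟨W, hW⟩ := hΦp.exists_le_sylow
  refine ⟨W, Φ.codRestrict _ fun s => hW ⟨s, rfl⟩, ?_⟩
  suffices hcard : p ^ (p + 1) ≤ Nat.card Φ.range by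
    have h1 := Subgroup.eq_of_le_of_card_ge hW (by
      rw [Cfsg.Agent.S2807.card_sylow_perm_sq]; exact hcard)
    rintro ⟨w, hw⟩
    obtain ⟨s, rfl⟩ := h1.ge hw
    exact ⟨s, rfl⟩
  have hFr : Nat.card Φ.range = K.normalCore.index := by
    rw [show Φ.range = (MulAction.toPermHom G (G ⧸ K)).range.map e.permCongrHom.toMonoidHom by
      rw [MonoidHom.range_comp],
      Subgroup.card_map_of_injective e.permCongrHom.injective, ← Subgroup.index_ker,
      ← Subgroup.normalCore_eq_ker]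
  have hKM : K ≤ M := Subgroup.map_subtype_le _
  have hzp : z ^ p ∈ M := by have := M.pow_index_mem z; rwa [hMi] at this
  let ψ : ↥M →* (ℕ → Multiplicative (ZMod p)) :=
    { toFun := fun m i => Multiplicative.ofAdd (conjSeq μ z m i)
      map_one' := by
        funext i
        show _ = (1 : Multiplicative (ZMod p))
        unfold conjSeq
        rw [ofAdd_toAdd, ← map_one μ]
        exact congrArg μ (Subtype.ext (by simp))
      map_mul' := fun m m' => by
        funext i
        show _ = Multiplicative.ofAdd (conjSeq μ z m i) * Multiplicative.ofAdd (conjSeq μ z m' i)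
        unfold conjSeq
        rw [ofAdd_toAdd, ofAdd_toAdd, ofAdd_toAdd, ← map_mul μ]
        exact congrArg μ (Subtype.ext (by simp [mul_assoc])) }
  have hψr := Cfsg.Agent.S2807.card_range_conjSeq μ hzp y hsum ψ fun m i => rfl
  have hle : K.normalCore.subgroupOf M ≤ ψ.ker := by
    intro m hm
    funext i
    show Multiplicative.ofAdd (conjSeq μ z m i) = 1
    unfold conjSeq
    rw [ofAdd_toAdd]
    have h1 := K.normalCore_le (by
      simpa using K.normalCore_normal.conj_mem _ (Subgroup.mem_subgroupOf.1 hm) (z ^ i)⁻¹ :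
      (z ^ i)⁻¹ * (m : G) * z ^ i ∈ K.normalCore)
    obtain ⟨k, hk, hkz⟩ := h1
    exact (congrArg μ (Subtype.ext hkz.symm)).trans hk
  have h1 : Nat.card ψ.range ≤ (K.normalCore.subgroupOf M).index := by
    rw [← Subgroup.index_ker]
    exact Nat.le_of_dvd (Nat.pos_of_ne_zero Subgroup.index_ne_zero_of_finite)
      (Subgroup.index_dvd_of_le hle)
  rw [hFr, ← Subgroup.relIndex_mul_index (K.normalCore_le.trans hKM), hMi, pow_succ]
  exact Nat.mul_le_mul_right p (hψr.trans h1)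

/-- **Yoshida's argument in a `p`-group.** -/
theorem exists_surjective_of_transfer_ne_one (hG : IsPGroup p G) {Q : Subgroup G} (hQ : Q ≠ ⊤)
    (χ : ↥Q →* Multiplicative (ZMod p)) (x : G)
    (hsmall : ∀ (k : ℕ) (m : G) (h : m⁻¹ * x ^ k * m ∈ Q), k ∣ orderOf x → k ≠ 1 →
      χ ⟨_, h⟩ = 1)
    (hne : MonoidHom.transfer χ x ≠ 1) :
    ∃ (W : Sylow p (Equiv.Perm (Fin (p ^ 2))))
      (f : G →* ↥(W : Subgroup (Equiv.Perm (Fin (p ^ 2))))), Function.Surjective f := by
  classical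
  obtain ⟨M, hM, hQM⟩ := (eq_top_or_exists_le_coatom Q).resolve_left hQ
  obtain ⟨hMn, hMi⟩ := Cfsg.Agent.Lib.Transfer.index_eq_of_isCoatom hG hM
  letI : Fintype (G ⧸ Q) := Fintype.ofFinite _
  letI : Fintype (G ⧸ M) := Fintype.ofFinite _
  letI : Fintype (↥M ⧸ Q.subgroupOf M) := Fintype.ofFinite _
  rw [transfer_eq_prod_fixTerm χ x hsmall] at hne
  obtain ⟨c₀, -, hc₀⟩ := Finset.exists_ne_one_of_prod_ne_one hne
  have hxM : x ∈ M := by
    unfold fixTerm at hc₀
    split_ifs at hc₀ with h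
    · simpa [mul_assoc] using hMn.conj_mem _ (hQM h) c₀.out
    · exact absurd rfl hc₀
  have hconjM : ∀ r : G, r⁻¹ * x * r ∈ M := fun r => by
    simpa [mul_assoc] using hMn.conj_mem _ hxM r⁻¹
  let χ' : ↥(Q.subgroupOf M) →* Multiplicative (ZMod p) :=
    χ.comp (Subgroup.subgroupOfEquivOfLe hQM).toMonoidHom
  let μ : ↥M →* Multiplicative (ZMod p) := MonoidHom.transfer χ'
  have hμ : ∀ r : G, μ ⟨_, hconjM r⟩ =
      ∏ d : ↥M ⧸ Q.subgroupOf M, fixTerm χ' ⟨_, hconjM r⟩ d := by
    intro r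
    refine transfer_eq_prod_fixTerm χ' _ fun k m hm hk hk1 => ?_
    have hord : orderOf (⟨_, hconjM r⟩ : ↥M) = orderOf x := by
      rw [← Subgroup.orderOf_coe]
      have h1 := (MulAut.conj r⁻¹).orderOf_eq x
      rw [MulAut.conj_apply, inv_inv] at h1
      exact h1
    have e1 : ((m⁻¹ * (⟨_, hconjM r⟩ : ↥M) ^ k * m : ↥M) : G) =
        (r * (m : G))⁻¹ * x ^ k * (r * (m : G)) := by
      have h1 : (r⁻¹ * x * r) ^ k = r⁻¹ * x ^ k * r := by
        have := conj_pow (i := k) (a := r⁻¹) (b := x)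
        simpa using this
      rw [Subgroup.coe_mul, Subgroup.coe_mul, InvMemClass.coe_inv, SubgroupClass.coe_pow, h1]
      group
    have hm' : (r * (m : G))⁻¹ * x ^ k * (r * (m : G)) ∈ Q := e1 ▸ (Subgroup.mem_subgroupOf.1 hm)
    show χ ⟨((m⁻¹ * (⟨_, hconjM r⟩ : ↥M) ^ k * m : ↥M) : G), hm⟩ = 1
    rw [show (⟨((m⁻¹ * (⟨_, hconjM r⟩ : ↥M) ^ k * m : ↥M) : G), hm⟩ : ↥Q) = ⟨_, hm'⟩ from
      Subtype.ext e1]
    exact hsmall k _ hm' (hord ▸ hk) hk1
  rw [prod_fixTerm_trans hQM] at hne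
  obtain ⟨z, hzM⟩ : ∃ z : G, z ∉ M := by
    by_contra hc
    push Not at hc
    exact hM.1 (eq_top_iff.2 fun g _ => hc g)
  refine exists_surjective_sylow_perm_sq hG hMi z ⟨x, hxM⟩ μ fun hsum => hne ?_
  have hzi : Function.Bijective fun i : Fin p => ((z ^ (i : ℕ) : G) : G ⧸ M) := by
    refine (Fintype.bijective_iff_injective_and_card _).2 ⟨?_, ?_⟩
    · have hz1 : QuotientGroup.mk' M z ≠ 1 := fun e => hzM ((QuotientGroup.eq_one_iff z).1 e)
      have hoz : orderOf (QuotientGroup.mk' M z) = p :=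
        orderOf_eq_prime (by
          rw [← show Nat.card (G ⧸ M) = p from hMi]; exact pow_card_eq_one') hz1
      intro i j e
      have e' : QuotientGroup.mk' M z ^ (i : ℕ) = QuotientGroup.mk' M z ^ (j : ℕ) := by
        rw [← map_pow, ← map_pow]; exact e
      exact Fin.ext (pow_injOn_Iio_orderOf (Set.mem_Iio.2 (lt_of_lt_of_eq i.2 hoz.symm))
        (Set.mem_Iio.2 (lt_of_lt_of_eq j.2 hoz.symm)) e')
    · rw [Fintype.card_fin, ← Nat.card_eq_fintype_card]
      exact hMi.symm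
  have hterm : ∀ (c : G ⧸ M) (r : G), (r : G ⧸ M) = c →
      μ ⟨_, hconjM c.out⟩ = μ ⟨_, hconjM r⟩ := by
    rintro c r rfl
    obtain ⟨m, hm⟩ := QuotientGroup.mk_out_eq_mul M r
    rw [show (⟨_, hconjM (r : G ⧸ M).out⟩ : ↥M) = m⁻¹ * ⟨_, hconjM r⟩ * m from
      Subtype.ext (by simp [hm, mul_assoc]),
      map_mul, map_mul, map_inv, mul_comm (μ m)⁻¹, inv_mul_cancel_right]
  rw [← hzi.prod_comp]
  apply Multiplicative.toAdd.injective
  rw [toAdd_prod, toAdd_one, ← hsum, ← Fin.sum_univ_eq_sum_range (conjSeq μ z ⟨x, hxM⟩)]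
  refine Finset.sum_congr rfl fun i _ => ?_
  rw [dif_pos (hconjM _), ← hμ, hterm _ (z ^ (i : ℕ)) rfl]
  rfl

end Cfsg.Agent.Lib.Transfer
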